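import Mathlib
import Cfsg.Agent.H64.Cross
import Cfsg.Agent.S0262
import Cfsg.Agent.OddHalf.NI.Mult

/-!
# The kernel of a perfect central extension in cross characteristic from coordinates

`R : RGD cs h p T n X`, `C : Coord X F s` (`s i : SL(2, F i) →* Y` onto the rank one subgroups), `θ` the
parametrisation of the torus.

* `noCov` : no perfect central extension of odd prime order `r ≠ p`, if `r` does not divide `|ker θ|`;
* `exists_surj` : `p ≠ 2`, the kernel a 2-group: it is an image of `ker θ`.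
-/

set_option autoImplicit false
set_option linter.unusedSectionVars false
set_option linter.style.haveILetI false

namespace Cfsg.Agent.H63.CoordBd

open CoxeterSystem Cfsg.Agent.ChevalleyStructure.CoxeterGeom Cfsg.Agent.Tits.Roots Cfsg.Agent.Tits.Core
  Cfsg.Agent.Tits.RootComb Cfsg.Agent.Nodes.Comb Cfsg.Agent.Nodes.Reps Cfsg.Agent.Nodes.BNOf
  Cfsg.Agent.Nodes.RGDLib Cfsg.Agent.Nodes.Bruhat
open Cfsg.Agent.OddHalf.NI.Mult (Coord dg dgHom)
open Cfsg.Agent.OddHalf.NI
open Cfsg.Agent.KFacts.MulOdd.Inst (Lv)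
open Cfsg.Agent.H67.Cross Cfsg.Agent.H51.Mult

variable {I W Y : Type*} [Fintype I] [DecidableEq I] [Group W] [Finite W] [Group Y] {M : CoxeterMatrix I}
  {cs : CoxeterSystem M W} {A : I → I → ℤ} {h : IsCartan M A} {p : ℕ} {T : Subgroup Y} {n : I → Y}
  {X : (I → ℤ) → Subgroup Y} {F : I → Type*} [∀ i, Field (F i)]
  {s : ∀ i, Matrix.SpecialLinearGroup (Fin 2) (F i) →* Y} [∀ i, Finite (F i)]

theorem charP [Fact p.Prime] (R : RGD cs h p T n X) (C : Coord X F s) (i : I) : CharP (F i) p := by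
  obtain ⟨r, hr⟩ := CharP.exists (F i)
  have h1 := Mult.char_eq R C i
  have h2 : r ∣ p := (CharP.cast_eq_zero_iff (F i) r p).1 h1
  rcases (Nat.dvd_prime Fact.out).1 h2 with h3 | h3
  · exact absurd h3 (CharP.char_ne_one (F i) r)
  · rwa [h3] at hr

/-- the rank one subgroups have no central extensions of odd prime order -/
theorem noCE [hp : Fact p.Prime] (R : RGD cs h p T n X) (C : Coord X F s) (i : I) {r : ℕ} (hr : r.Prime) (h2 : r ≠ 2)
    (hne : r ≠ p) : NoCE p r ↥(Lv X i) := by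
  have : Fact r.Prime := ⟨hr⟩
  have : CharP (F i) p := charP R C i
  have : Fintype (F i) := Fintype.ofFinite (F i)
  have hran : (s i).range = Lv X i := le_antisymm (C.range_le_KK i) (C.KK_le_range i)
  refine NoCE.congr ?_ (MulEquiv.subgroupCongr hran)
  let P : Sylow r (Matrix.SpecialLinearGroup (Fin 2) (F i)) := default
  have hcyc : IsCyclic P := Cfsg.Agent.S0262.result p r h2 hne P
  have hs : Function.Surjective (s i).rangeRestrict := (s i).rangeRestrict_surjective
  have : Finite (s i).range := Finite.of_surjective _ hs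
  let S : Sylow r (s i).range := P.mapSurjective hs
  refine NoCE.of_cyclic hp.out hr hne (S := (S : Subgroup (s i).range)) S.not_dvd_index ?_
  have h3 : (S : Subgroup (s i).range) = (P : Subgroup _).map (s i).rangeRestrict := rfl
  rw [h3]
  exact isCyclic_of_surjective ((s i).rangeRestrict.subgroupMap (P : Subgroup _))
    ((s i).rangeRestrict.subgroupMap_surjective _)

variable {θ : (∀ i, (F i)ˣ) →* Y}

omit [∀ i, Finite (F i)] in
theorem range_le (R : RGD cs h p T n X) (C : Coord X F s) (hθ : ∀ i t, θ (Pi.mulSingle i t) = s i (dg t)) :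
    θ.range ≤ T := by
  rintro _ ⟨t, rfl⟩
  let H : Submonoid (∀ i, (F i)ˣ) :=
    { carrier := {t | θ t ∈ T}
      one_mem' := by show θ 1 ∈ T; rw [map_one]; exact one_mem _
      mul_mem' := fun {a b} ha hb => by show θ (a * b) ∈ T; rw [map_mul]; exact mul_mem ha hb }
  have h1 : t ∈ H := by
    rw [← Finset.univ_prod_mulSingle t]
    refine prod_mem fun i _ => ?_
    show θ (Pi.mulSingle i (t i)) ∈ T
    rw [hθ]
    exact Mult.dg_mem_T R C i _
  exact h1

/-- The order of the kernel of a perfect central extension, all ranks one without extensions. -/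
theorem card_ker_dvd [hp : Fact p.Prime] (R : RGD cs h p T n X) (gen : G1 cs h X = ⊤) (C : Coord X F s)
    (hθ : ∀ i t, θ (Pi.mulSingle i t) = s i (dg t)) {L : Type} [Group L] [Finite L] {π : L →* Y} (hd : PCE π)
    (hc : (Nat.card π.ker).Coprime p)
    (hrk : ∀ i, ∀ r : ℕ, r.Prime → r ∣ Nat.card π.ker → NoCE p r ↥(Lv X i)) :
    Nat.card π.ker ∣ Nat.card θ.ker := by
  haveI : Finite Y := Finite.of_surjective π hd.surj
  have h1 := H64.Cross.card_ker_mul_dvd hp.out hd hc R gen hrk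
  have h2 : ∏ i, Nat.card ↥(T ⊓ Lv X i) ∣ ∏ i, Nat.card (F i)ˣ := by
    refine Finset.prod_dvd_prod_of_dvd _ _ fun i _ => ?_
    have h3 : T ⊓ Lv X i = ((s i).comp dgHom).range := Mult.T_inf_KK R C i
    rw [h3]
    exact Subgroup.card_range_dvd _
  have h3 : Nat.card θ.range ∣ Nat.card T := Subgroup.card_dvd_of_le (range_le R C hθ)
  have h4 : ∏ i, Nat.card (F i)ˣ = Nat.card (∀ i, (F i)ˣ) := (Nat.card_pi).symm
  have h5 : Nat.card (∀ i, (F i)ˣ) = Nat.card θ.range * Nat.card θ.ker := by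
    have h6 := Subgroup.card_eq_card_quotient_mul_card_subgroup θ.ker
    rw [h6]
    congr 1
    exact Nat.card_congr (QuotientGroup.quotientKerEquivRange θ).toEquiv
  have h6 : Nat.card π.ker * Nat.card θ.range ∣ Nat.card θ.range * Nat.card θ.ker := by
    rw [← h5, ← h4]
    exact (mul_dvd_mul_left _ h3).trans (h1.trans h2)
  have h7 : 0 < Nat.card θ.range := Nat.card_pos
  rw [mul_comm] at h6
  exact Nat.dvd_of_mul_dvd_mul_left h7 h6

/-- **Odd primes.** -/
theorem noCov [hp : Fact p.Prime] (R : RGD cs h p T n X) (gen : G1 cs h X = ⊤) (C : Coord X F s)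
    (hθ : ∀ i t, θ (Pi.mulSingle i t) = s i (dg t)) {r : ℕ} (hr : r.Prime) (h2 : r ≠ 2) (hne : r ≠ p)
    (hk : ¬ r ∣ Nat.card θ.ker) : NoCov r Y := by
  intro L _ _ π hd hcard
  apply hk
  rw [← hcard]
  refine card_ker_dvd R gen C hθ hd ?_ ?_
  · rw [hcard]; exact (Nat.coprime_primes hr hp.out).2 hne
  · intro i r' hr' hd'
    rw [hcard] at hd'
    have : r' = r := (Nat.prime_dvd_prime_iff_eq hr' hr).1 hd'
    subst this
    exact noCE R C i hr' h2 hne

/-- **The prime two**, `p` odd: the kernel is an image of `ker θ`. -/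
theorem exists_surj [hp : Fact p.Prime] (hp2 : p ≠ 2) (R : RGD cs h p T n X) (gen : G1 cs h X = ⊤) (C : Coord X F s)
    (hθ : ∀ i t, θ (Pi.mulSingle i t) = s i (dg t)) {L : Type*} [Group L] [Finite L] {π : L →* Y} (hd : PCE π)
    (hk : IsPGroup 2 π.ker) : ∃ f : θ.ker →* π.ker, Function.Surjective f := by
  obtain ⟨s', θ', -, -, e3, e4, -⟩ := Mult.mult hp2 R gen C θ hθ hd.surj hd.cen hk hd.perf
  have h1 : ∀ t : θ.ker, θ' t.1 ∈ π.ker := by
    intro t
    rw [MonoidHom.mem_ker, ← MonoidHom.comp_apply, e3]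
    exact t.2
  refine ⟨(θ'.comp θ.ker.subtype).codRestrict π.ker h1, ?_⟩
  rintro ⟨x, hx⟩
  have h2 : x ∈ θ'.range := by
    rw [e4, Subgroup.mem_comap, MonoidHom.mem_ker.1 hx]
    exact one_mem _
  obtain ⟨t, rfl⟩ := h2
  refine ⟨⟨t, ?_⟩, Subtype.ext rfl⟩
  rw [MonoidHom.mem_ker, ← e3, MonoidHom.comp_apply]
  exact hx

end Cfsg.Agent.H63.CoordBd
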