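import Mathlib
import Cfsg.Agent.H63.CoordBd
import Cfsg.Agent.Nodes.WittInst
import Cfsg.Agent.OddHalf.NI.OmegaPlus

/-!
# Upper bounds for the multiplier of `PΩ⁺_{2l}(q)` in cross characteristic

`W` a hyperbolic Witt frame of `Q`, `K = ker (θ : (Fˣ)^l → PΩ)`:

* `four` : `K` has exponent dividing four; `noCov` : odd primes;
* `exists_surj` : the kernel of a perfect central 2-extension is an image of `K`;
* `cyc` : `l` odd: `K` is cyclic of order dividing `gcd (4, q - 1)`;
* `sq`, `card_le` : `l` even: `K` has exponent two and order at most four.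
-/

set_option autoImplicit false
set_option linter.unusedSectionVars false

namespace Cfsg.Agent.H63.PlusBd

open QuadraticMap
open Cfsg.Agent.LieClassical Cfsg.Agent.LieClassical.OrthCore Cfsg.Agent.LieClassical.OrthTrans
open Cfsg.Agent.LieClassical.OrthFinite
open Cfsg.Agent.TitsThree Cfsg.Agent.TitsThree.Siegel Cfsg.Agent.TitsThree.SiegelGen Cfsg.Agent.TitsThree.WittFrame
open Cfsg.Agent.TitsThree.WBridge Cfsg.Agent.TitsThree.KSideO
open Cfsg.Agent.ChevalleyStructure.CoxeterGeom Cfsg.Agent.Tits.Roots Cfsg.Agent.Tits.Core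
open Cfsg.Agent.Nodes Cfsg.Agent.Nodes.BNOf Cfsg.Agent.Nodes.Reps Cfsg.Agent.Nodes.RGDLib Cfsg.Agent.Nodes.WittAll
open Cfsg.Agent.Nodes.WittInst Cfsg.Agent.Nodes.TypeD
open Cfsg.Agent.Nodes.WittRGD (Tor mem_Tor b_ne_zero eq_or_ng)
open Cfsg.Agent.OddHalf.NI Cfsg.Agent.OddHalf.NI.OmegaPlus
open Cfsg.Agent.OddHalf.NI.Mult (up lo dg dgHom Coord)
open Cfsg.Agent.H51.Mult

variable {κ : Type} [Fintype κ] [DecidableEq κ] {F : Type*} [Field F] {Q : QuadraticForm F (κ → F)} {n : ℕ}
  (W : WFrame (PO Q) (n + 2)) (hG : Good Q)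

/-- the coordinates -/
noncomputable def sP (i : Fin (n + 2)) : Matrix.SpecialLinearGroup (Fin 2) F →* Cfsg.POmega F ⇑Q :=
  (toPOmega hG).comp (s W i)

theorem coordP : Coord (XD W (toPOmega hG)) (fun _ : Fin (n + 2) => F) (sP W hG) where
  up i := by
    have h1 : (XD W (toPOmega hG) (sr i) : Set (Cfsg.POmega F ⇑Q)) =
      (toPOmega hG) '' (OmegaPlus.X W (sr i) : Set (E Q)) := rfl
    rw [h1, (coord W).up i, ← Set.range_comp]
    rfl
  lo i := by
    have h1 : (XD W (toPOmega hG) (-sr i) : Set (Cfsg.POmega F ⇑Q)) =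
      (toPOmega hG) '' (OmegaPlus.X W (-sr i) : Set (E Q)) := rfl
    rw [h1, (coord W).lo i, ← Set.range_comp]
    rfl

/-- the parametrisation of the torus of `PΩ` -/
noncomputable def thP : (∀ _ : Fin (n + 2), Fˣ) →* Cfsg.POmega F ⇑Q := (toPOmega hG).comp (th W)

theorem thP_single (i : Fin (n + 2)) (t : Fˣ) : thP W hG (Pi.mulSingle i t) = sP W hG i (dg t) := by
  show toPOmega hG (th W (Pi.mulSingle i t)) = toPOmega hG (s W i (dg t))
  rw [th_single]

/-! ### The kernel of the parametrisation -/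

/-- the common value of the characters -/
theorem exists_chi {t : Fin (n + 2) → Fˣ} (ht : thP W hG t = 1) : ∃ c : Fˣ, (∀ z, chi z t = c) ∧ c ^ 2 = 1 := by
  obtain ⟨c, hc⟩ := scalar_of_center hG (center_of_toPOmega hG (g := th W t) ht)
  have h1 : ∀ z, ((chi z t : Fˣ) : F) = c := by
    intro z
    have h1 := th_apply W z t
    rw [hc] at h1
    have h2 : (c - ((chi z t : Fˣ) : F)) • (toFrame W).b z = 0 := by rw [sub_smul, h1, sub_self]
    exact (sub_eq_zero.1 ((smul_eq_zero.1 h2).resolve_right (b_ne_zero _))).symm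
  obtain ⟨c', rfl⟩ : ∃ c' : Fˣ, (c' : F) = c := ⟨chi (0, true) t, h1 _⟩
  have h2 : ∀ z, chi z t = c' := fun z => Units.ext (h1 z)
  refine ⟨c', h2, ?_⟩
  have h1 := chi_false (0 : Fin (n + 2)) t
  rw [h2, h2, eq_inv_iff_mul_eq_one] at h1
  rw [pow_two, h1]

theorem chi_vals {t : Fin (n + 2) → Fˣ} {c : Fˣ} (h : ∀ z, chi z t = c) :
    (∀ m : Fin (n + 2), (m : ℕ) < n → t m = c ^ ((m : ℕ) + 1)) ∧
      (∀ m : Fin (n + 2), (m : ℕ) = n → t m * t (Fin.last (n + 1)) = c ^ (n + 1)) ∧
      t (Fin.last (n + 1)) ^ 2 = c ^ (n + 2) := by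
  have h1 : ∀ m : Fin (n + 2), ∏ k ∈ Finset.Iic m, chi (k, true) t = c ^ ((m : ℕ) + 1) := by
    intro m
    rw [Finset.prod_congr rfl fun k _ => h (k, true), Finset.prod_const, Fin.card_Iic]
  refine ⟨fun m hm => ?_, fun m hm => ?_, ?_⟩
  · have h2 := prod_chi t m
    rw [h1, if_pos hm] at h2
    exact h2.symm
  · have h2 := prod_chi t m
    rw [h1, if_neg (by omega), if_pos hm, hm] at h2
    exact h2.symm
  · have h2 := prod_chi t (Fin.last (n + 1))
    rw [h1, if_neg (by simp only [Fin.val_last]; omega), if_neg (by simp only [Fin.val_last]; omega)] at h2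
    rw [← h2]
    rfl

/-- an element of the kernel is determined by the value of the characters and the last coordinate -/
theorem eq_one_of {t : Fin (n + 2) → Fˣ} (h : ∀ z, chi z t = 1) (hl : t (Fin.last (n + 1)) = 1) : t = 1 := by
  obtain ⟨h1, h2, -⟩ := chi_vals h
  funext m
  have hm := m.2
  rcases Nat.lt_trichotomy (m : ℕ) n with h3 | h3 | h3
  · rw [h1 m h3, one_pow]; rfl
  · have := h2 m h3
    rw [hl, mul_one, one_pow] at this
    exact this
  · have h4 : m = Fin.last (n + 1) := Fin.ext (by simp only [Fin.val_last]; omega)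
    rw [h4, hl]; rfl

theorem four {t : Fin (n + 2) → Fˣ} (ht : thP W hG t = 1) : t ^ 4 = 1 := by
  obtain ⟨c, hc, hc2⟩ := exists_chi W hG ht
  have h0 : ∀ z, chi z (t ^ 4) = 1 := by
    intro z
    rw [map_pow, hc, show 4 = 2 * 2 by norm_num, pow_mul, hc2, one_pow]
  refine eq_one_of h0 ?_
  show t (Fin.last (n + 1)) ^ 4 = 1
  rw [show 4 = 2 * 2 by norm_num, pow_mul, (chi_vals hc).2.2, ← pow_mul, mul_comm, pow_mul, hc2, one_pow]

/-- **odd rank**: the last coordinate is injective on the kernel -/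
theorem last_inj (hn : Odd n) {t : Fin (n + 2) → Fˣ} (ht : thP W hG t = 1) (hl : t (Fin.last (n + 1)) = 1) : t = 1 := by
  obtain ⟨c, hc, hc2⟩ := exists_chi W hG ht
  have h1 := (chi_vals hc).2.2
  obtain ⟨k, rfl⟩ := hn
  rw [hl, one_pow, show 2 * k + 1 + 2 = 2 * (k + 1) + 1 by ring, pow_succ, pow_mul, hc2, one_pow, one_mul] at h1
  subst h1
  exact eq_one_of hc hl

/-- **odd rank**: the kernel is cyclic of order dividing `gcd (4, q - 1)` -/
theorem cyc [Finite F] (hn : Odd n) : IsCyclic (thP W hG).ker ∧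
    Nat.card (thP W hG).ker ∣ Nat.gcd 4 (Nat.card F - 1) := by
  let f : (thP W hG).ker →* Fˣ := (Pi.evalMonoidHom (fun _ : Fin (n + 2) => Fˣ) (Fin.last (n + 1))).comp
    (thP W hG).ker.subtype
  have hf : Function.Injective f := by
    rw [injective_iff_map_eq_one]
    intro t ht
    exact Subtype.ext (last_inj W hG hn t.2 ht)
  have hcyc : IsCyclic (thP W hG).ker := by
    exact isCyclic_of_injective_ringHom ((Units.coeHom F).comp f) (Units.val_injective.comp hf)
  refine ⟨hcyc, Nat.dvd_gcd ?_ ?_⟩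
  · rw [← IsCyclic.exponent_eq_card]
    exact Monoid.exponent_dvd_of_forall_pow_eq_one fun t => Subtype.ext (four W hG t.2)
  · rw [← Nat.card_units]
    exact Subgroup.card_dvd_of_injective f hf

/-- **even rank**: the kernel has exponent two -/
theorem sq (hn : Even n) {t : Fin (n + 2) → Fˣ} (ht : thP W hG t = 1) : t ^ 2 = 1 :=
  k2 W hG hn (center_of_toPOmega hG (g := th W t) ht)

theorem card_sq_le [Finite F] {S : Subgroup Fˣ} (hS : ∀ x ∈ S, x ^ 2 = 1) : Nat.card S ≤ 2 := by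
  have h1 : IsCyclic S := inferInstance
  have h2 : Nat.card S ∣ 2 := by
    rw [← IsCyclic.exponent_eq_card]
    exact Monoid.exponent_dvd_of_forall_pow_eq_one fun t => Subtype.ext (hS _ t.2)
  exact Nat.le_of_dvd two_pos h2

/-- **even rank**: the kernel has order at most four -/
theorem card_le [Finite F] (hn : Even n) : Nat.card (thP W hG).ker ≤ 4 := by
  let S : Subgroup Fˣ := (powMonoidHom 2).ker
  have hS : Nat.card S ≤ 2 := card_sq_le (S := S) fun x hx => hx
  have h0 : ∀ t : (thP W hG).ker, chi (0, true) t.1 ∈ S ∧ t.1 (Fin.last (n + 1)) ∈ S := by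
    intro t
    refine ⟨?_, congrFun (sq W hG hn t.2) _⟩
    show chi (0, true) t.1 ^ 2 = 1
    rw [← map_pow, sq W hG hn t.2, map_one]
  let f : (thP W hG).ker → S × S := fun t => (⟨_, (h0 t).1⟩, ⟨_, (h0 t).2⟩)
  have hf : Function.Injective f := by
    intro t u h
    have e1 : chi (0, true) t.1 = chi (0, true) u.1 := congrArg (fun x => (x.1 : Fˣ)) h
    have e2 : t.1 (Fin.last (n + 1)) = u.1 (Fin.last (n + 1)) := congrArg (fun x => (x.2 : Fˣ)) h
    have h1 : thP W hG (t.1 * u.1⁻¹) = 1 := by rw [map_mul, map_inv, t.2, u.2]; simp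
    obtain ⟨c, hc, -⟩ := exists_chi W hG h1
    have hc1 : c = 1 := by
      rw [← hc (0, true), map_mul, map_inv, e1, mul_inv_cancel]
    subst hc1
    have h2 := eq_one_of hc (by
      show t.1 (Fin.last (n + 1)) * (u.1 (Fin.last (n + 1)))⁻¹ = 1
      rw [e2, mul_inv_cancel])
    exact Subtype.ext (mul_inv_eq_one.1 h2)
  have h1 := Nat.card_le_card_of_injective f hf
  rw [Nat.card_prod] at h1
  calc Nat.card (thP W hG).ker ≤ Nat.card S * Nat.card S := h1
    _ ≤ 2 * 2 := Nat.mul_le_mul hS hS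
    _ = 4 := by norm_num

/-! ### The bounds -/

include hG in
/-- **odd primes** -/
theorem noCov [Finite F] (hA : WittRoot.Amb (toFrame W) (E Q)) (h0 : ∀ p : (toFrame W).Adm, p = 1) {p : ℕ}
    [hp : Fact p.Prime] [CharP F p] {r : ℕ} (hr : r.Prime) (hr2 : r ≠ 2) (hne : r ≠ p) :
    NoCov r (Cfsg.POmega F ⇑Q) := by
  have hfin : Finite (M n).Group := finite_W (M n).toCoxeterSystem
  have R := rgdD_model (p := p) W hG hA h0 (M n).toCoxeterSystem
  refine CoordBd.noCov R (G1D_eq_top W (toPOmega hG) (toPOmega_surjective hG) h0 _) (coordP W hG)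
    (thP_single W hG) hr hr2 hne ?_
  intro hd
  have : Fact r.Prime := ⟨hr⟩
  obtain ⟨x, hx⟩ := exists_prime_orderOf_dvd_card' r hd
  have h1 : x ^ 4 = 1 := Subtype.ext (four W hG x.2)
  have h2 := orderOf_dvd_of_pow_eq_one h1
  rw [hx] at h2
  have h3 : r ∣ 2 := hr.dvd_of_dvd_pow (show r ∣ 2 ^ 2 from h2)
  exact hr2 ((Nat.prime_dvd_prime_iff_eq hr Nat.prime_two).1 h3)

/-- **the prime two**, odd characteristic -/
theorem exists_surj [Finite F] (hA : WittRoot.Amb (toFrame W) (E Q)) (h0 : ∀ p : (toFrame W).Adm, p = 1) {p : ℕ}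
    [hp : Fact p.Prime] [CharP F p] (hp2 : p ≠ 2) {L : Type*} [Group L] [Finite L] {π : L →* Cfsg.POmega F ⇑Q}
    (hd : PCE π) (hk : IsPGroup 2 π.ker) : ∃ f : (thP W hG).ker →* π.ker, Function.Surjective f := by
  have hfin : Finite (M n).Group := finite_W (M n).toCoxeterSystem
  have R := rgdD_model (p := p) W hG hA h0 (M n).toCoxeterSystem
  exact CoordBd.exists_surj hp2 R (G1D_eq_top W (toPOmega hG) (toPOmega_surjective hG) h0 _) (coordP W hG)
    (thP_single W hG) hd hk

end Cfsg.Agent.H63.PlusBd
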