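import Mathlib
import Cfsg.Agent.H63.CoordBd
import Cfsg.Agent.Nodes.WittInst
import Cfsg.Agent.OddHalf.NI.OmegaRows

/-!
# Upper bounds for the multiplier of `PΩ(Q)` from a Witt frame with coordinates at the nodes

`Q` with a Witt frame `W` with anisotropic part, nodes `N i` (`OmegaNodes.Node`); `K` the kernel of the
parametrisation `thP` of the torus of `PΩ(Q)`.

* `exists_eps` : the elements of `K`; `last_inj`, `cyc` : `K` is cyclic;
* `noCov` : odd primes, `exists_surj` : the prime two.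
-/

set_option autoImplicit false
set_option linter.unusedSectionVars false

namespace Cfsg.Agent.H63.NodeBd

open CoxeterSystem Cfsg.Agent.ChevalleyStructure.CoxeterGeom Cfsg.Agent.Tits.Roots Cfsg.Agent.Tits.Core
  Cfsg.Agent.Tits.RootComb Cfsg.Agent.Nodes.Comb Cfsg.Agent.Nodes.Reps Cfsg.Agent.Nodes.BNOf
  Cfsg.Agent.Nodes.RGDLib Cfsg.Agent.Nodes.Chart
open QuadraticMap
open Matrix (SpecialLinearGroup)
open Cfsg.Agent.LieClassical Cfsg.Agent.LieClassical.OrthCore Cfsg.Agent.LieClassical.OrthTrans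
open Cfsg.Agent.LieClassical.OrthSimple Cfsg.Agent.LieClassical.OrthFinite Cfsg.Agent.LieClassical.OrthForms
open Cfsg.Agent.TitsThree Cfsg.Agent.TitsThree.Siegel Cfsg.Agent.TitsThree.SiegelGen
  Cfsg.Agent.TitsThree.WittFrame Cfsg.Agent.TitsThree.WittWeyl Cfsg.Agent.TitsThree.WBridge
  Cfsg.Agent.TitsThree.KSideO
open Cfsg.Agent.Nodes Cfsg.Agent.Nodes.WittAll
open Cfsg.Agent.Nodes.WittRoot (XG ZG PG PG_ne PG_self Mono XG_swap rg rg_eq)
open Cfsg.Agent.Nodes.WittRGD (Tor mem_Tor nn)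
open Cfsg.Agent.Nodes.TypeC Cfsg.Agent.Nodes.TypeCForm Cfsg.Agent.Nodes.KindBC
open Cfsg.Agent.OddHalf.NI Cfsg.Agent.OddHalf.NI.OmegaNodes
open Cfsg.Agent.H51.Mult

variable {κ : Type} [Fintype κ] [DecidableEq κ] {F : Type} [Field F] {Q : QuadraticForm F (κ → F)} {m : ℕ}
  {W : WFrame (PO Q) m} {B : Type} [CommGroup B] {D : (Fin m → Fˣ) × B →* ((κ → F) ≃ₗ[F] (κ → F))} {emb : Fˣ → B}
  {P : Fˣ → Prop} (N : ∀ i, Node W D emb P i) (hle : ∀ x, rg (toFrame W) x ≤ E Q) (hG : Good Q)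

include hle in
theorem s_mem (i : Fin m) (g : SpecialLinearGroup (Fin 2) (N i).K) : (N i).s g ∈ E Q := by
  have h1 : (E Q).comap (N i).s = ⊤ := by
    apply Mult.mem_of_up_lo
    · intro a
      exact hle _ (((N i).up _).2 ⟨a, rfl⟩)
    · intro a
      exact hle _ (((N i).lo _).2 ⟨a, rfl⟩)
  exact Subgroup.mem_comap.1 (h1 ▸ Subgroup.mem_top g)

/-- the coordinate in `E Q` -/
def sE (i : Fin m) : SpecialLinearGroup (Fin 2) (N i).K →* ↥(E Q) :=
  (N i).s.codRestrict (E Q) (s_mem N hle i)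

theorem coordE : Mult.Coord (fun x => (rg (toFrame W) x).subgroupOf (E Q)) (fun i => (N i).K) (sE N hle) where
  up i := by
    ext g
    rw [SetLike.mem_coe, Subgroup.mem_subgroupOf, (N i).up]
    exact exists_congr fun a => ⟨fun h => Subtype.ext h, fun h => congrArg Subtype.val h⟩
  lo i := by
    ext g
    rw [SetLike.mem_coe, Subgroup.mem_subgroupOf, (N i).lo]
    exact exists_congr fun a => ⟨fun h => Subtype.ext h, fun h => congrArg Subtype.val h⟩

theorem comm_dg (i j : Fin m) (x : (N i).Kˣ) (y : (N j).Kˣ) :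
    Commute (((sE N hle i).comp Mult.dgHom) x) (((sE N hle j).comp Mult.dgHom) y) := by
  apply Subtype.ext
  change (N i).s (Mult.dg x) * (N j).s (Mult.dg y) = (N j).s (Mult.dg y) * (N i).s (Mult.dg x)
  rw [(N i).dg, (N j).dg, ← map_mul, ← map_mul, mul_comm]

/-- the parametrisation of the torus -/
noncomputable def theta : (∀ i, ((N i).K)ˣ) →* ↥(E Q) :=
  MonoidHom.noncommPiCoprod (fun i => (sE N hle i).comp Mult.dgHom) fun i j _ x y => comm_dg N hle i j x y

theorem theta_single (i : Fin m) (t : ((N i).K)ˣ) : theta N hle (Pi.mulSingle i t) = sE N hle i (Mult.dg t) :=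
  MonoidHom.noncommPiCoprod_mulSingle _ _ _

theorem coe_theta (t : ∀ i, ((N i).K)ˣ) : ((theta N hle t : ↥(E Q)) : (κ → F) ≃ₗ[F] (κ → F)) = D (cw N t) := by
  have h1 : (E Q).subtype.comp (theta N hle) = D.comp (cw N) := by
    apply MonoidHom.pi_ext
    intro i t
    change ((theta N hle (Pi.mulSingle i t) : ↥(E Q)) : (κ → F) ≃ₗ[F] (κ → F)) = D (cw N (Pi.mulSingle i t))
    rw [theta_single, cw_single, ← (N i).dg]
    rfl
  exact DFunLike.congr_fun h1 t

/-! ### `PΩ` -/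

/-- the coordinates in `PΩ` -/
noncomputable def sP (i : Fin m) : SpecialLinearGroup (Fin 2) (N i).K →* Cfsg.POmega F ⇑Q :=
  (toPOmega hG).comp (sE N hle i)

/-- the parametrisation of the torus of `PΩ` -/
noncomputable def thP : (∀ i, ((N i).K)ˣ) →* Cfsg.POmega F ⇑Q := (toPOmega hG).comp (theta N hle)

theorem thP_single (i : Fin m) (t : ((N i).K)ˣ) : thP N hle hG (Pi.mulSingle i t) = sP N hle hG i (Mult.dg t) := by
  show toPOmega hG (theta N hle (Pi.mulSingle i t)) = toPOmega hG (sE N hle i (Mult.dg t))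
  rw [theta_single]

theorem coordP (hp : ∃ p : (toFrame W).Adm, p.c ≠ 0) :
    Mult.Coord (WittModel.X (model W hG hp)) (fun i => (N i).K) (sP N hle hG) where
  up i := by
    have h1 : (WittModel.X (model W hG hp) (sr i) : Set (Cfsg.POmega F ⇑Q)) =
      (toPOmega hG) '' ((rg (toFrame W) (sr i)).subgroupOf (E Q) : Set (E Q)) := rfl
    rw [h1, (coordE N hle).up i, ← Set.range_comp]
    rfl
  lo i := by
    have h1 : (WittModel.X (model W hG hp) (-sr i) : Set (Cfsg.POmega F ⇑Q)) =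
      (toPOmega hG) '' ((rg (toFrame W) (-sr i)).subgroupOf (E Q) : Set (E Q)) := rfl
    rw [h1, (coordE N hle).lo i, ← Set.range_comp]
    rfl

/-! ### The kernel -/

variable (hD : Scal D emb) (hm : 0 < m)

include hD hm in
/-- the elements of the kernel -/
theorem exists_eps {t : ∀ i, ((N i).K)ˣ} (ht : thP N hle hG t = 1) :
    ∃ ε : Fˣ, ε ^ 2 = 1 ∧ ∀ i, (N i).e (t i) = ε ^ ((i : ℕ) + 1) ∧ (¬ (i : ℕ) + 1 < m → (N i).w (t i) = emb ε) := by
  obtain ⟨c, hc⟩ := scalar_of_center hG (center_of_toPOmega hG (g := theta N hle t) ht)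
  have hb := WittRGD.b_ne_zero (Fr := toFrame W) (⟨0, hm⟩, true)
  have hc0 : c ≠ 0 := by
    rintro rfl
    have h1 := hc ((toFrame W).b (⟨0, hm⟩, true))
    rw [zero_smul] at h1
    exact hb (((theta N hle t : ↥(E Q)) : (κ → F) ≃ₗ[F] (κ → F)).map_eq_zero_iff.1 h1)
  rw [coe_theta] at hc
  obtain ⟨h2, hc', hw⟩ := hD _ _ (Units.mk0 c hc0) hc
  refine ⟨Units.mk0 c hc0, h2, fun i => ⟨coords (x := fun i => (N i).e (t i)) hc' i, fun hi => ?_⟩⟩
  rw [← hw]
  change _ = ∏ j, (N j).w (t j)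
  rw [Finset.prod_eq_single i]
  · intro j _ hj
    refine (N j).w1 ?_ _
    have h4 : (j : ℕ) ≠ i := fun h => hj (Fin.ext h)
    have := i.2
    have := j.2
    omega
  · intro h
    exact absurd (Finset.mem_univ _) h

/-- the last node -/
def la : Fin m := ⟨m - 1, by omega⟩

variable (he : ∀ i : Fin m, (i : ℕ) + 1 < m → Function.Injective (N i).e) (hemb : ∀ ε, emb ε = 1 → ε = 1)

include hD hemb he in
theorem last_inj {t : ∀ i, ((N i).K)ˣ} (ht : thP N hle hG t = 1) (h1 : t (la hm) = 1) : t = 1 := by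
  obtain ⟨ε, -, h⟩ := exists_eps N hle hG hD hm ht
  have h2 : ε = 1 := by
    have h3 := (h (la hm)).2 (by simp only [la]; omega)
    rw [h1, map_one] at h3
    exact hemb ε h3.symm
  funext i
  by_cases hi : (i : ℕ) + 1 < m
  · apply he i hi
    rw [(h i).1, h2, one_pow]
    exact (map_one _).symm
  · have : i = la hm := Fin.ext (by simp only [la]; have := i.2; omega)
    rw [this, h1]; rfl

include hD hemb he hm in
/-- **the kernel is cyclic** -/
theorem cyc {d : ℕ} (hd : ∀ t, thP N hle hG t = 1 → t ^ d = 1) :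
    IsCyclic (thP N hle hG).ker ∧ Nat.card (thP N hle hG).ker ∣ d := by
  let f : (thP N hle hG).ker →* ((N (la hm)).K)ˣ :=
    (Pi.evalMonoidHom (fun i => ((N i).K)ˣ) (la hm)).comp (thP N hle hG).ker.subtype
  have hf : Function.Injective f := by
    rw [injective_iff_map_eq_one]
    intro t ht
    exact Subtype.ext (last_inj N hle hG hD hm he hemb t.2 ht)
  have hcyc : IsCyclic (thP N hle hG).ker :=
    isCyclic_of_injective_ringHom ((Units.coeHom (N (la hm)).K).comp f) (Units.val_injective.comp hf)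
  refine ⟨hcyc, ?_⟩
  rw [← IsCyclic.exponent_eq_card]
  exact Monoid.exponent_dvd_of_forall_pow_eq_one fun t => Subtype.ext (hd _ t.2)

/-! ### The bounds -/

variable [Finite F] {p : ℕ} [hp : Fact p.Prime] [CharP F p] (hA : AmbT (toFrame W) p (E Q))
  {p0 : (toFrame W).Adm} (hp0 : p0.c ≠ 0)

include N hG hm hA hp0 in
/-- **odd primes** -/
theorem noCov (h4 : ∀ t, thP N hA.rg_le hG t = 1 → t ^ 4 = 1) {r : ℕ} (hr : r.Prime) (hr2 : r ≠ 2) (hne : r ≠ p) :
    NoCov r (Cfsg.POmega F ⇑Q) := by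
  have hfin : Finite (CoxeterMatrix.B m).Group := finite_W (CoxeterMatrix.B m).toCoxeterSystem
  have R := rgdC_model (model W hG ⟨p0, hp0⟩) hA hp0 (CoxeterMatrix.B m).toCoxeterSystem
  refine CoordBd.noCov R (WittModel.G1_eq_top _ hm _) (coordP N hA.rg_le hG ⟨p0, hp0⟩)
    (thP_single N hA.rg_le hG) hr hr2 hne ?_
  intro hd
  have : Fact r.Prime := ⟨hr⟩
  obtain ⟨x, hx⟩ := exists_prime_orderOf_dvd_card' r hd
  have h1 : x ^ 4 = 1 := Subtype.ext (h4 x.1 x.2)
  have h2 := orderOf_dvd_of_pow_eq_one h1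
  rw [hx] at h2
  have h3 : r ∣ 2 := hr.dvd_of_dvd_pow (show r ∣ 2 ^ 2 from h2)
  exact hr2 ((Nat.prime_dvd_prime_iff_eq hr Nat.prime_two).1 h3)

include hm hp0 in
/-- **the prime two**, odd characteristic -/
theorem exists_surj (hp2 : p ≠ 2) {L : Type*} [Group L] [Finite L] {π : L →* Cfsg.POmega F ⇑Q}
    (hd : PCE π) (hk : IsPGroup 2 π.ker) : ∃ f : (thP N hA.rg_le hG).ker →* π.ker, Function.Surjective f := by
  have hfin : Finite (CoxeterMatrix.B m).Group := finite_W (CoxeterMatrix.B m).toCoxeterSystem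
  have R := rgdC_model (model W hG ⟨p0, hp0⟩) hA hp0 (CoxeterMatrix.B m).toCoxeterSystem
  exact CoordBd.exists_surj hp2 R (WittModel.G1_eq_top _ hm _) (coordP N hA.rg_le hG ⟨p0, hp0⟩)
    (thP_single N hA.rg_le hG) hd hk

end Cfsg.Agent.H63.NodeBd
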