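import Mathlib
import Cfsg.Agent.H63.Plus
import Cfsg.Agent.OddHalf.D9.EEight.Id.Main
import Cfsg.Agent.H66.SchurParts
import Cfsg.Agent.UGT.U2.Rec.Congr

/-!
# The Schur multiplier of `Ω₈⁺(2)`

The cover `2².Ω₈⁺(2)` is the subdirect product `D` of `EEight.Id.Main.exists_dat`.
-/

set_option autoImplicit false

namespace Cfsg.Agent.H63.EightTwo

open Cfsg.Agent.OddHalf.D9.EEight.Id
open Cfsg.Agent.OddHalf.D9.EEight.Id.Main
open Cfsg.Agent.OddHalf.D9.EEight.Id.ModTwo (Q good)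
open Cfsg.Agent.KFacts.OddLift.Basic (Cov)
open Cfsg.Agent.LieClassical.OrthCore Cfsg.Agent.LieClassical.OrthForms
open Cfsg.Agent.TitsThree.KSideO
open Cfsg.Agent.H51.Mult

/-- `P Q = PΩ₈⁺(2)` -/
theorem exists_equiv : Nonempty (Cfsg.POmega (ZMod 2) (Cfsg.quadFormPlus 4 (ZMod 2)) ≃*
    ClassicalGeometry.OrthAut1.P Q) := by
  rw [← coe_plusForm]
  have hinj : Function.Injective (toPOmega good) := by
    rw [injective_iff_map_eq_one]
    intro g hg
    have h1 := center_of_toPOmega good hg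
    rw [Onto.center_E] at h1
    exact Subgroup.mem_bot.1 h1
  have e1 : ↥(E Q) ≃* Cfsg.POmega (ZMod 2) ⇑Q :=
    MulEquiv.ofBijective (toPOmega good) ⟨hinj, toPOmega_surjective good⟩
  have e2 : ↥(E Q) ≃* ClassicalGeometry.OrthAut1.P Q :=
    ((QuotientGroup.quotientMulEquivOfEq Onto.center_E).trans QuotientGroup.quotientBot).symm
  exact ⟨e1.symm.trans e2⟩

theorem perfect_P : commutator (ClassicalGeometry.OrthAut1.P Q) = ⊤ := by
  obtain ⟨e⟩ := exists_equiv
  have h1 : commutator (Cfsg.POmega (ZMod 2) (Cfsg.quadFormPlus 4 (ZMod 2))) = ⊤ := by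
    rw [← coe_plusForm]
    exact Asm.perfect_PO good
  exact KFacts.MulDef.commutator_top_of_surj e.toMonoidHom e.surjective h1

theorem cov_id : Cov (MonoidHom.id (ClassicalGeometry.OrthAut1.P Q)) where
  surj := Function.surjective_id
  central := by rw [MonoidHom.ker_id]; exact bot_le
  two := by rw [MonoidHom.ker_id]; exact IsPGroup.of_bot
  perfect := perfect_P

theorem main : Cfsg.HasSchurMultiplier (ClassicalGeometry.OrthAut1.P Q) (Multiplicative (ZMod 2 × ZMod 2)) := by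
  obtain ⟨D, _, _, S, hS⟩ := exists_dat cov_id
  have hπ : PCE S.θ := by
    refine ⟨S.θ_surj, ?_, S.perfect⟩
    intro z hz
    rw [Subgroup.mem_center_iff]
    exact fun g => S.comm_θ hz g
  have hfin : Finite S.θ.ker := inferInstance
  have hK : IsKleinFour S.θ.ker := by
    refine ⟨S.card_θ_eq, ?_⟩
    have h2 : Monoid.exponent S.θ.ker ∣ 2 := Monoid.exponent_dvd_of_forall_pow_eq_one fun z => by
      apply Subtype.ext
      show (z : D) ^ 2 = 1
      rw [pow_two]
      exact S.sq_θ z.2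
    rcases (Nat.dvd_prime Nat.prime_two).1 h2 with h3 | h3
    · exfalso
      rw [Monoid.exp_eq_one_iff] at h3
      have h4 := Nat.card_eq_one_iff_unique.2 ⟨h3, ⟨1⟩⟩
      have h5 := S.card_θ_eq
      omega
    · exact h3
  obtain ⟨e⟩ := IsKleinFour.nonempty_mulEquiv (G₁ := S.θ.ker) (G₂ := Multiplicative (ZMod 2 × ZMod 2))
  refine H66.SchurParts.hasSchurMultiplier_of_cover perfect_P hπ ?_ e
  intro L' _ _ ρ hρ
  rw [S.card_θ_eq]
  have hno : ∀ r : ℕ, r.Prime → r ≠ 2 → NoCov r (ClassicalGeometry.OrthAut1.P Q) := by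
    intro r hr hr2
    obtain ⟨e⟩ := exists_equiv
    exact (Plus.noCov_odd_prime (F := ZMod 2) (l := 4) le_rfl hr hr2).congr e
  have h2 := Asm.isPGroup_two hno hρ
  have hc : Cov ρ := ⟨hρ.surj, hρ.cen, h2, hρ.perf⟩
  have h3 := Main.card_ker_le hc
  have : Fact (Nat.Prime 2) := ⟨Nat.prime_two⟩
  obtain ⟨k, hk⟩ := h2.exists_card_eq
  rw [hk] at h3 ⊢
  have h4 : k ≤ 2 := by
    by_contra h
    have h5 : 2 ^ 3 ≤ 2 ^ k := Nat.pow_le_pow_right (by norm_num) (by omega)
    omega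
  exact pow_dvd_pow 2 h4

end Cfsg.Agent.H63.EightTwo
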