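import Cfsg.Agent.H63.SYFive
import Cfsg.Agent.Classification.MinSimpleStrong
import Cfsg.Agent.H301.SY.Base

/-!
# Five elements of prime power order generating a minimal simple group (helper63, for S3846)
-/

set_option autoImplicit false

namespace Cfsg.Agent.H63.SYFiveMin

open Cfsg Subgroup Cfsg.Agent.H63.SYFive

theorem exists_not_int {F : Type*} [Field F] [Fintype F] {r f : ℕ} [hr : Fact r.Prime]
    (hF : Fintype.card F = r ^ f) (hf : 2 ≤ f) : ∃ t : F, ∀ n : ℤ, (n : F) ≠ t := by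
  have : CharP F r := charP_of_card_eq_prime_pow hF
  by_contra hcon
  push Not at hcon
  have h1 : Function.Surjective (ZMod.castHom (dvd_refl r) F) := by
    intro x
    obtain ⟨n, hn⟩ := hcon x
    exact ⟨(n : ZMod r), by rw [map_intCast, hn]⟩
  have h2 := Nat.card_le_card_of_surjective _ h1
  rw [Nat.card_eq_fintype_card, hF, Nat.card_zmod] at h2
  have h3 : r ^ 2 ≤ r ^ f := Nat.pow_le_pow_right hr.out.pos hf
  have h4 := hr.out.two_le
  nlinarith

theorem int_surj {F : Type*} [Field F] [Fintype F] {r : ℕ} [hr : Fact r.Prime]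
    (hF : Fintype.card F = r) (x : F) : ∃ n : ℤ, (n : F) = x := by
  have : CharP F r := charP_of_card_eq_prime_pow (f := 1) (by rw [hF, pow_one])
  obtain ⟨y, hy⟩ := (ZMod.castHom_bijective F hF).2 x
  obtain ⟨n, rfl⟩ := ZMod.intCast_surjective y
  exact ⟨n, by rw [← hy, map_intCast]⟩

/-- **A minimal simple group has five elements of order a power of `2` (or of `3`) generating a non-solvable
subgroup.** -/
theorem five {K : Type*} [Group K] [Finite K] [IsSimpleGroup K] (hna : ¬ IsMulCommutative K)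
    (hmin : ∀ H : Subgroup K, H ≠ ⊤ → Group.IsSolvable H) : Five 2 K ∨ Five 3 K := by
  have hns : ¬ Group.IsSolvable K := fun h => hna ⟨⟨IsSimpleGroup.comm_iff_isSolvable.2 h⟩⟩
  have hK : IsMinimalSimple K := ⟨inferInstance, hna, hmin⟩
  rcases Cfsg.Agent.Classification.MinSimpleStrong.concl hK with ⟨f, hf, F, _, _, hF, ⟨e⟩⟩ |
    ⟨f, hf, -, F, _, _, hF, ⟨e⟩⟩ | ⟨l, hl, -, F, _, _, hF, ⟨e⟩⟩ | ⟨F, _, _, hF, ⟨e⟩⟩ | ⟨F, _, _, m, hm, -, hF, ⟨e⟩⟩
  · have : Fact (Nat.Prime 2) := ⟨Nat.prime_two⟩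
    have : CharP F 2 := charP_of_card_eq_prime_pow hF
    obtain ⟨t, ht⟩ := exists_not_int hF hf.two_le
    exact Or.inl ((five_psl2 (p := 2) ht).congr e)
  · have : Fact (Nat.Prime 3) := ⟨Nat.prime_three⟩
    have : CharP F 3 := charP_of_card_eq_prime_pow hF
    obtain ⟨t, ht⟩ := exists_not_int hF hf.two_le
    exact Or.inr ((five_psl2 (p := 3) ht).congr e)
  · have : Fact l.Prime := ⟨hl⟩
    have : IsSimpleGroup (Matrix.ProjectiveSpecialLinearGroup (Fin 2) F) := e.symm.isSimpleGroup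
    exact Or.inr ((five_psl2_prime (fun h => hns (Group.isSolvable_of_surjective (f := e.symm.toMonoidHom)
      e.symm.surjective)) (int_surj hF)).congr e)
  · exact Or.inr ((five_psl3 hF (fun h => hns (Group.isSolvable_of_surjective (f := e.symm.toMonoidHom)
      e.symm.surjective))).congr e)
  · exact Or.inl ((five_sz hm hF).congr e)

/-- the form used in S3846 -/
theorem five_min {K : Type*} [Group K] [Finite K] [IsSimpleGroup K] (hna : ¬ IsMulCommutative K)
    (hmin : ∀ H : Subgroup K, H ≠ ⊤ → Group.IsSolvable H) {p : ℕ} (_hp : p.Prime) (hp5 : 5 ≤ p) :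
    ∃ r : ℕ, r.Prime ∧ r ≠ p ∧ ∃ s : Fin 5 → K, (∀ i, ∃ k : ℕ, orderOf (s i) = r ^ k) ∧
      ¬ Group.IsSolvable ↥(Subgroup.closure (Set.range s)) := by
  rcases five hna hmin with h | h
  · exact ⟨2, Nat.prime_two, by omega, h⟩
  · exact ⟨3, Nat.prime_three, by omega, h⟩

end Cfsg.Agent.H63.SYFiveMin
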