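import Mathlib
import Cfsg.Agent.H63.Asm
import Cfsg.Agent.H63.NodeBd
import Cfsg.Agent.H63.ODef

/-!
# The Schur multiplier of `PΩ_{2m+1}(q)`, `q` odd

* `noCov_cross` : odd primes different from the characteristic, `bd_two` : the prime two (every `m ≥ 3`);
* `exists_cover` : the spin cover; `main_zero` : the multiplier is cyclic of order two.
-/

set_option autoImplicit false
set_option linter.unusedSectionVars false

namespace Cfsg.Agent.H63.Odd

open QuadraticMap
open Cfsg.Agent.LieClassical Cfsg.Agent.LieClassical.OrthCore Cfsg.Agent.LieClassical.OrthTrans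
open Cfsg.Agent.LieClassical.OrthSimple Cfsg.Agent.LieClassical.OrthFinite Cfsg.Agent.LieClassical.OrthForms
open Cfsg.Agent.TitsThree Cfsg.Agent.TitsThree.Siegel Cfsg.Agent.TitsThree.SiegelGen
  Cfsg.Agent.TitsThree.WittFrame Cfsg.Agent.TitsThree.WittWeyl Cfsg.Agent.TitsThree.WBridge
  Cfsg.Agent.TitsThree.KSideO Cfsg.Agent.TitsThree.StdData
open Cfsg.Agent.Nodes Cfsg.Agent.Nodes.WittAll Cfsg.Agent.Nodes.WittInst
open Cfsg.Agent.OddHalf.NI Cfsg.Agent.OddHalf.NI.OmegaNodes Cfsg.Agent.OddHalf.NI.OmegaLast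
  Cfsg.Agent.OddHalf.NI.OmegaTorus Cfsg.Agent.OddHalf.NI.OmegaRows
open Cfsg.Agent.H51.Mult Cfsg.Agent.H63.Spin Cfsg.Agent.H63.Asm

theorem good {F : Type*} [Field F] [Finite F] (h2 : (2 : F) ≠ 0) {m : ℕ} (hm : 2 ≤ m) : Good (oddForm m F) := by
  apply good_of_finite (nondeg_oddForm m F h2)
  rw [Module.finrank_fintype_fun_eq_card, Fintype.card_sum, Fintype.card_sum, Fintype.card_fin,
    Fintype.card_unit]
  omega

section cross

variable {F : Type} [Field F] [Finite F] (m : ℕ)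

theorem nodeO_e {i : Fin m} (hi : (i : ℕ) + 1 < m) : Function.Injective (nodeO (F := F) m i).e := by
  unfold nodeO
  rw [dif_pos hi]
  exact Function.injective_id

theorem exists_adm (F : Type) [Field F] : ∃ p0 : (toFrame (wodd m F)).Adm, p0.c ≠ 0 := by
  refine ⟨(embOdd m F).ngt ⟨1, -1 ^ 2, rfl⟩, ?_⟩
  change (1 : F)⁻¹ * (-1 ^ 2) ≠ 0
  simp

variable (hG : Good (oddForm m F)) (hle : ∀ x, WittRoot.rg (toFrame (wodd m F)) x ≤ E (oddForm m F))

theorem two (hm : 0 < m) (t : ∀ i, ((nodeO (F := F) m i).K)ˣ) (ht : NodeBd.thP (nodeO m) hle hG t = 1) :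
    t ^ 2 = 1 := by
  obtain ⟨ε, h2, h⟩ := NodeBd.exists_eps (nodeO m) hle hG (scalO m hm) hm ht
  funext i
  exact (nodeO m i).sol ε h2 trivial (t i) (h i).1 (h i).2

/-- **odd primes in cross characteristic** -/
theorem noCov_cross (h2 : (2 : F) ≠ 0) (hm : 3 ≤ m) {p : ℕ} [Fact p.Prime] [CharP F p] {r : ℕ} (hr : r.Prime)
    (hr2 : r ≠ 2) (hne : r ≠ p) : NoCov r (Cfsg.POmega F (Cfsg.quadFormOdd m F)) := by
  rw [← coe_oddForm]
  have hG : Good (oddForm m F) := good h2 (by omega)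
  obtain ⟨p0, hp0⟩ := exists_adm m F
  have hA := AmbT.of_amb (amb_O_of_two (wodd m F) h2) p
  refine NodeBd.noCov (nodeO m) hG (by omega) hA hp0 (fun t ht => ?_) hr hr2 hne
  rw [show 4 = 2 * 2 by norm_num, pow_mul, two m hG hA.rg_le (by omega) t ht, one_pow]

/-- **the prime two** -/
theorem bd_two (h2 : (2 : F) ≠ 0) (hm : 3 ≤ m) : Bd 2 1 (Cfsg.POmega F (Cfsg.quadFormOdd m F)) := by
  obtain ⟨p, hp⟩ := CharP.exists F
  have hpp : Fact p.Prime := ⟨CharP.char_is_prime F p⟩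
  have hp2 : p ≠ 2 := by
    rintro rfl
    exact h2 (by exact_mod_cast CharP.cast_eq_zero F 2)
  rw [← coe_oddForm]
  have hG : Good (oddForm m F) := good h2 (by omega)
  obtain ⟨p0, hp0⟩ := exists_adm m F
  have hA := AmbT.of_amb (amb_O_of_two (wodd m F) h2) p
  obtain ⟨h3, h4⟩ := NodeBd.cyc (nodeO m) hA.rg_le hG (scalO m (show 0 < m by omega)) (by omega)
    (fun i hi => nodeO_e m hi) (fun ε he => he) (two m hG hA.rg_le (by omega))
  have h5 := bd_two_of_surj (X := Cfsg.POmega F ⇑(oddForm m F)) (n := 2) (by norm_num) h3 h4 fun L _ _ π hd hk =>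
    NodeBd.exists_surj (nodeO m) hG (by omega) hA hp0 hp2 hd hk
  have h6 : (2 : ℕ).factorization 2 = 1 := Nat.prime_two.factorization_self
  rwa [h6] at h5

end cross

section cover

universe u

/-- **the spin cover** -/
theorem exists_cover {F : Type u} [Field F] [Finite F] (h2 : (2 : F) ≠ 0) {m : ℕ} (hm : 3 ≤ m) :
    ∃ (L : Type u) (_ : Group L) (_ : Finite L) (π : L →* Cfsg.POmega F (Cfsg.quadFormOdd m F)),
      PCE π ∧ 2 ∣ Nat.card π.ker := by
  rw [← coe_oddForm]
  have hG : Good (oddForm m F) := good h2 (by omega)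
  have := finite_LL hG h2
  exact ⟨LL (oddForm m F), inferInstance, inferInstance, spi hG, pce hG h2, two_dvd hG h2 (wodd m F) hm⟩

end cover

/-- **The multiplier of `PΩ_{2m+1}(q)`**, `F : Type`. -/
theorem main_zero {F : Type} [Field F] [Finite F] (h2 : (2 : F) ≠ 0) {m : ℕ} (hm : 3 ≤ m)
    (hq : m = 3 → 3 < Nat.card F) : Cfsg.HasCyclicSchurMultiplier (Cfsg.POmega F (Cfsg.quadFormOdd m F)) 2 := by
  have hX : commutator (Cfsg.POmega F (Cfsg.quadFormOdd m F)) = ⊤ := by
    rw [← coe_oddForm]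
    exact perfect_PO (good h2 (by omega))
  have hfin : Finite (Cfsg.POmega F (Cfsg.quadFormOdd m F)) := by
    rw [← coe_oddForm]
    exact finite_PO (good h2 (by omega))
  obtain ⟨p, hp⟩ := CharP.exists F
  have hpp : Fact p.Prime := ⟨CharP.char_is_prime F p⟩
  refine hasCyclic hX (by norm_num) (fun r hr _ => ?_) (exists_cover h2 hm)
  by_cases hr2 : r = 2
  · subst hr2
    rw [Nat.prime_two.factorization_self]
    exact bd_two m h2 hm
  · by_cases hne : r = p
    · subst hne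
      exact bd_odd hr (Ort.noCov_odd F h2 (p := r) hm hq)
    · exact bd_odd hr (noCov_cross m h2 hm hr hr2 hne)

end Cfsg.Agent.H63.Odd
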