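import Cfsg.Agent.H63.SYTi
import Cfsg.Agent.LieClassical.SmallIso
import Cfsg.Agent.S1163
import Cfsg.Agent.S2403

/-!
# Few elements of prime power order generating a non-solvable subgroup (helper63, for S3846)

`Five r K` : five elements of `r`-power order of `K` generate a non-solvable subgroup.
The groups `PSL₂(F)`, `PSL₃(3)`, `Sz(F)` (for the minimal simple groups).
-/

set_option autoImplicit false

namespace Cfsg.Agent.H63.SYFive

open Cfsg Subgroup Matrix

/-- five elements of `r`-power order generating a non-solvable subgroup -/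
def Five (r : ℕ) (K : Type*) [Group K] : Prop :=
  ∃ s : Fin 5 → K, (∀ i, ∃ k : ℕ, orderOf (s i) = r ^ k) ∧
    ¬ Group.IsSolvable ↥(closure (Set.range s))

theorem Five.congr {r : ℕ} {K L : Type*} [Group K] [Group L] (e : K ≃* L) (h : Five r L) : Five r K := by
  obtain ⟨s, hs, hns⟩ := h
  refine ⟨fun i => e.symm (s i), fun i => ?_, fun hsol => hns ?_⟩
  · obtain ⟨k, hk⟩ := hs i
    exact ⟨k, by rw [← hk]; exact orderOf_injective e.symm.toMonoidHom e.symm.injective (s i)⟩
  · have h1 : (closure (Set.range s)) = (closure (Set.range fun i => e.symm (s i))).map e.toMonoidHom := by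
      rw [MonoidHom.map_closure, ← Set.range_comp]
      congr 1
      congr 1
      funext i
      exact (e.apply_symm_apply (s i)).symm
    rw [h1]
    exact Group.isSolvable_of_surjective
      (f := (e.toMonoidHom.subgroupMap (closure (Set.range fun i => e.symm (s i)))))
      (e.toMonoidHom.subgroupMap_surjective _)

/-- three elements suffice -/
theorem Five.of_three {r : ℕ} {K : Type*} [Group K] (hr : r.Prime) {a b c : K} {i j k : ℕ} (ha : a ^ r ^ i = 1)
    (hb : b ^ r ^ j = 1) (hc : c ^ r ^ k = 1)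
    (h : ∀ L : Subgroup K, a ∈ L → b ∈ L → c ∈ L → ¬ Group.IsSolvable L) : Five r K := by
  have key : ∀ (x : K) (n : ℕ), x ^ r ^ n = 1 → ∃ k : ℕ, orderOf x = r ^ k := by
    intro x n hx
    obtain ⟨k, -, hk⟩ := (Nat.dvd_prime_pow hr).1 (orderOf_dvd_of_pow_eq_one hx)
    exact ⟨k, hk⟩
  refine ⟨![a, b, c, c, c], ?_, h _ (subset_closure ⟨0, rfl⟩) (subset_closure ⟨1, rfl⟩)
    (subset_closure ⟨2, rfl⟩)⟩
  intro i
  fin_cases i
  · exact key a _ ha
  · exact key b _ hb
  · exact key c _ hc
  · exact key c _ hc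
  · exact key c _ hc

/-! ### `SL₂` and `PSL₂` -/

section Two

variable {F : Type*} [Field F]

local notation "SL2" => Matrix.SpecialLinearGroup (Fin 2) F
local notation "PSL2" => Matrix.ProjectiveSpecialLinearGroup (Fin 2) F

/-- the upper triangular matrices -/
def borel (F : Type*) [Field F] : Subgroup (Matrix.SpecialLinearGroup (Fin 2) F) where
  carrier := {g | g.1 1 0 = 0}
  mul_mem' := by
    intro g h hg hh
    have hg : g.1 1 0 = 0 := hg
    have hh : h.1 1 0 = 0 := hh
    show (g * h).1 1 0 = 0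
    rw [show (g * h).1 = g.1 * h.1 from rfl, Matrix.mul_apply, Fin.sum_univ_two, hg, hh]
    ring
  one_mem' := by
    show (1 : Matrix (Fin 2) (Fin 2) F) 1 0 = 0
    simp
  inv_mem' := by
    intro g hg
    have hg : g.1 1 0 = 0 := hg
    show (g⁻¹).1 1 0 = 0
    rw [Matrix.SpecialLinearGroup.coe_inv, Matrix.adjugate_fin_two]
    simpa using hg

theorem mem_borel {g : SL2} : g ∈ borel F ↔ g.1 1 0 = 0 := Iff.rfl

/-- central elements are scalar -/
theorem center_apply {z : SL2} (hz : z ∈ center SL2) : z.1 1 0 = 0 ∧ z.1 0 1 = 0 ∧ z.1 0 0 = z.1 1 1 := by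
  obtain ⟨r, -, hr⟩ := Matrix.SpecialLinearGroup.mem_center_iff.1 hz
  rw [← hr]
  simp

theorem mem_center {z : SL2} (h1 : z.1 1 0 = 0) (h2 : z.1 0 1 = 0) (h3 : z.1 0 0 = z.1 1 1) : z ∈ center SL2 := by
  rw [Matrix.SpecialLinearGroup.mem_center_iff]
  refine ⟨z.1 0 0, ?_, ?_⟩
  · have h4 := z.2
    rw [Matrix.det_fin_two, h1, h2, ← h3] at h4
    rw [Fintype.card_fin]
    linear_combination h4
  · ext i j
    fin_cases i <;> fin_cases j <;> simp [h1, h2, h3]

theorem mk_mem_map_borel {g : SL2} : (QuotientGroup.mk g : PSL2) ∈ (borel F).map (QuotientGroup.mk' _) ↔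
    g ∈ borel F := by
  constructor
  · rintro ⟨h, hh, he⟩
    have h1 : (QuotientGroup.mk h : PSL2) = QuotientGroup.mk g := he
    rw [QuotientGroup.eq] at h1
    obtain ⟨h2, -, -⟩ := center_apply h1
    have h3 : g = h * (h⁻¹ * g) := by group
    rw [h3]
    exact (borel F).mul_mem hh h2
  · intro h
    exact ⟨g, h, rfl⟩

/-- the upper transvection -/
def up (b : F) : SL2 := Matrix.SpecialLinearGroup.transvection (zero_ne_one : (0 : Fin 2) ≠ 1) b

theorem up_val (b : F) : (up b).1 = !![1, b; 0, 1] := by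
  rw [up, Matrix.SpecialLinearGroup.transvection_coe]
  ext i j
  fin_cases i <;> fin_cases j <;> simp

theorem up_add (b c : F) : up b * up c = up (b + c) := by
  apply Subtype.ext
  show (up b).1 * (up c).1 = (up (b + c)).1
  rw [up_val, up_val, up_val]
  ext i j
  fin_cases i <;> fin_cases j <;> simp [add_comm]

theorem up_zero : up (0 : F) = 1 := by
  apply Subtype.ext
  show (up (0 : F)).1 = (1 : Matrix (Fin 2) (Fin 2) F)
  rw [up_val]
  ext i j
  fin_cases i <;> fin_cases j <;> simp

theorem up_pow (b : F) (n : ℕ) : up b ^ n = up (n * b) := by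
  induction n with
  | zero => simp [up_zero]
  | succ n ih => rw [pow_succ, ih, up_add]; congr 1; push_cast; ring

theorem up_zpow (b : F) (n : ℤ) : up b ^ n = up (n * b) := by
  obtain ⟨m, rfl | rfl⟩ := n.eq_nat_or_neg
  · rw [zpow_natCast, up_pow]; simp
  · rw [_root_.zpow_neg, zpow_natCast, up_pow, inv_eq_iff_mul_eq_one, up_add, ← up_zero]
    congr 1
    push_cast
    ring

theorem up_mem (b : F) : up b ∈ borel F := by
  rw [mem_borel, up_val]
  rfl

/-- the upper transvections embed in `PSL₂` -/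
theorem mk_up_inj {b c : F} (h : (QuotientGroup.mk (up b) : PSL2) = QuotientGroup.mk (up c)) : b = c := by
  rw [QuotientGroup.eq] at h
  have h1 : (up b)⁻¹ = up (-b) := by
    rw [inv_eq_iff_mul_eq_one, up_add, ← up_zero]
    congr 1
    ring
  rw [h1, up_add] at h
  obtain ⟨-, h2, -⟩ := center_apply h
  rw [up_val] at h2
  have h3 : -b + c = 0 := h2
  linear_combination -h3

variable {p : ℕ} [hp : Fact p.Prime] [CharP F p]

/-- the elements of order `p` of the Borel subgroup -/
theorem of_pow_mem {e : SL2} (he : e.1 1 0 = 0) (h : e ^ p ∈ center SL2) : e.1 0 0 = e.1 1 1 := by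
  have key : ∀ n : ℕ, (e ^ n).1 1 0 = 0 ∧ (e ^ n).1 0 0 = e.1 0 0 ^ n ∧ (e ^ n).1 1 1 = e.1 1 1 ^ n := by
    intro n
    induction n with
    | zero => simp
    | succ n ih =>
      obtain ⟨h1, h2, h3⟩ := ih
      have h4 : (e ^ (n + 1)).1 = (e ^ n).1 * e.1 := by rw [pow_succ]; rfl
      rw [h4]
      simp only [Matrix.mul_apply, Fin.sum_univ_two]
      rw [h1, h2, h3, he]
      refine ⟨by ring, by ring, by ring⟩
  obtain ⟨-, h2, h3⟩ := key p
  obtain ⟨-, -, h4⟩ := center_apply h
  rw [h2, h3] at h4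
  exact frobenius_inj F p h4

/-- the Borel subgroup of `PSL₂` is strongly `p`-embedded -/
theorem strong (g e : PSL2) (he : e ∈ (borel F).map (QuotientGroup.mk' _)) (hep : orderOf e = p)
    (h : g⁻¹ * e * g ∈ (borel F).map (QuotientGroup.mk' _)) : g ∈ (borel F).map (QuotientGroup.mk' _) := by
  obtain ⟨g', rfl⟩ := QuotientGroup.mk_surjective g
  obtain ⟨e', rfl⟩ := QuotientGroup.mk_surjective e
  rw [mk_mem_map_borel] at he ⊢
  have h1 : (QuotientGroup.mk (g'⁻¹ * e' * g') : PSL2) ∈ (borel F).map (QuotientGroup.mk' _) := h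
  rw [mk_mem_map_borel, mem_borel] at h1
  rw [mem_borel] at he ⊢
  have h2 : e' ^ p ∈ center SL2 := by
    have h3 : (QuotientGroup.mk e' : PSL2) ^ p = 1 := by rw [← hep]; exact pow_orderOf_eq_one _
    rw [← QuotientGroup.mk_pow] at h3
    exact (QuotientGroup.eq_one_iff _).1 h3
  have h3 := of_pow_mem he h2
  have h4 : e'.1 0 1 ≠ 0 := by
    intro h4
    have h5 : e' ∈ center SL2 := mem_center he h4 h3
    have h6 : (QuotientGroup.mk e' : PSL2) = 1 := (QuotientGroup.eq_one_iff _).2 h5
    rw [h6, orderOf_one] at hep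
    exact hp.out.one_lt.ne hep
  have h5 : (g'⁻¹ * e' * g').1 1 0 = -(e'.1 0 1 * g'.1 1 0 ^ 2) := by
    show ((g'⁻¹).1 * e'.1 * g'.1) 1 0 = _
    rw [Matrix.SpecialLinearGroup.coe_inv, Matrix.adjugate_fin_two]
    simp only [Matrix.mul_apply, Fin.sum_univ_two, Matrix.of_apply, Matrix.cons_val', Matrix.cons_val_zero,
      Matrix.cons_val_one, Matrix.cons_val_fin_one]
    rw [he, h3]
    ring
  rw [h5, neg_eq_zero, mul_eq_zero] at h1
  exact pow_eq_zero_iff (two_ne_zero) |>.1 (h1.resolve_left h4)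

/-- **`PSL₂(F)`, `F` not a prime field** -/
theorem five_psl2 [Finite F] {t : F} (ht : ∀ n : ℤ, (n : F) ≠ t) : Five p PSL2 := by
  have hup1 : (QuotientGroup.mk (up 1) : PSL2) ≠ 1 := by
    rw [← QuotientGroup.mk_one, ← up_zero]
    intro h
    exact one_ne_zero (mk_up_inj h)
  have hupt : (QuotientGroup.mk (up t) : PSL2) ≠ 1 := by
    rw [← QuotientGroup.mk_one, ← up_zero]
    intro h
    exact ht 0 (by rw [mk_up_inj h]; simp)
  have hpow : ∀ b : F, (QuotientGroup.mk (up b) : PSL2) ^ p = 1 := by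
    intro b
    rw [← QuotientGroup.mk_pow, up_pow, CharP.cast_eq_zero, zero_mul, up_zero]
    rfl
  set w : PSL2 := QuotientGroup.mk (Matrix.SpecialLinearGroup.transvection (one_ne_zero : (1 : Fin 2) ≠ 0) (1 : F))
    with hw
  have hwM : w ∉ (borel F).map (QuotientGroup.mk' _) := by
    rw [hw, mk_mem_map_borel, mem_borel, Matrix.SpecialLinearGroup.transvection_coe]
    simp
  refine Five.of_three (a := QuotientGroup.mk (up 1)) (b := QuotientGroup.mk (up t))
    (c := w * QuotientGroup.mk (up 1) * w⁻¹) (i := 1) (j := 1) (k := 1) hp.out ?_ ?_ ?_ ?_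
  · rw [pow_one]; exact hpow 1
  · rw [pow_one]; exact hpow t
  · rw [pow_one, conj_pow, hpow 1]
    group
  · intro L ha hb hc
    refine SYTi.not_solvable (M := (borel F).map (QuotientGroup.mk' _)) (fun g e he => strong g e he) ?_ ?_ ?_ ?_ ?_
      hwM ha hb hc
    · rw [mk_mem_map_borel]; exact up_mem 1
    · exact orderOf_eq_prime (hpow 1) hup1
    · exact orderOf_eq_prime (hpow t) hupt
    · rw [← QuotientGroup.mk_mul, ← QuotientGroup.mk_mul, up_add, up_add, add_comm]
    · intro h
      obtain ⟨n, hn⟩ := mem_zpowers_iff.1 h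
      rw [← QuotientGroup.mk_zpow, up_zpow] at hn
      have h1 := mk_up_inj hn
      rw [mul_one] at h1
      exact ht n h1

end Two

/-! ### Prime fields -/

section Prime

variable {F : Type*} [Field F]

local notation "SL2" => Matrix.SpecialLinearGroup (Fin 2) F
local notation "PSL2" => Matrix.ProjectiveSpecialLinearGroup (Fin 2) F

/-- the Weyl element -/
def wS (F : Type*) [Field F] : Matrix.SpecialLinearGroup (Fin 2) F := ⟨!![0, -1; 1, 0], by simp [Matrix.det_fin_two]⟩

theorem wS_sq : (QuotientGroup.mk (wS F) : PSL2) * QuotientGroup.mk (wS F) = 1 := by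
  rw [← QuotientGroup.mk_mul]
  apply (QuotientGroup.eq_one_iff _).2
  have h : (wS F * wS F).1 = !![-1, 0; 0, -1] := by
    show !![(0 : F), -1; 1, 0] * !![(0 : F), -1; 1, 0] = _
    ext i j
    fin_cases i <;> fin_cases j <;> simp [Matrix.mul_apply, Fin.sum_univ_two]
  apply mem_center <;> rw [h] <;> rfl

theorem wS_up_cube : (QuotientGroup.mk (wS F * up 1) : PSL2) ^ 3 = 1 := by
  rw [← QuotientGroup.mk_pow]
  apply (QuotientGroup.eq_one_iff _).2
  have h : ((wS F * up 1) ^ 3).1 = !![-1, 0; 0, -1] := by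
    rw [pow_succ, pow_two]
    show ((wS F).1 * (up 1).1) * ((wS F).1 * (up 1).1) * ((wS F).1 * (up 1).1) = _
    rw [up_val]
    show (!![(0 : F), -1; 1, 0] * !![1, 1; 0, 1]) * (!![(0 : F), -1; 1, 0] * !![1, 1; 0, 1]) *
      (!![(0 : F), -1; 1, 0] * !![1, 1; 0, 1]) = _
    ext i j
    fin_cases i <;> fin_cases j <;> simp [Matrix.mul_apply, Fin.sum_univ_two]
  apply mem_center <;> rw [h] <;> rfl

theorem wS_up_ne : (QuotientGroup.mk (wS F * up 1) : PSL2) ≠ 1 := by
  intro h
  have h1 := (QuotientGroup.eq_one_iff _).1 h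
  obtain ⟨h2, -, -⟩ := center_apply h1
  have h3 : (wS F * up 1).1 1 0 = 1 := by
    show ((wS F).1 * (up (1 : F)).1) 1 0 = 1
    rw [up_val]
    show ((!![0, -1; 1, 0] : Matrix (Fin 2) (Fin 2) F) * (!![1, 1; 0, 1] : Matrix (Fin 2) (Fin 2) F)) 1 0 = 1
    simp [Matrix.mul_apply, Fin.sum_univ_two]
  rw [h3] at h2
  exact one_ne_zero h2

/-- the Weyl element and one transvection generate `SL₂` of a prime field -/
theorem closure_wS_up (hF : ∀ x : F, ∃ n : ℤ, (n : F) = x) {L : Subgroup SL2} (h1 : wS F ∈ L) (h2 : up 1 ∈ L) :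
    L = ⊤ := by
  have hB : AddSubgroup.closure ({1} : Set F) = ⊤ := by
    rw [eq_top_iff]
    intro x _
    obtain ⟨n, rfl⟩ := hF x
    exact AddSubgroup.mem_closure_singleton.2 ⟨n, by simp⟩
  rw [eq_top_iff, ← LieClassical.SmallIso.closure_transSet hB, closure_le]
  rintro g ⟨b, hb, hg⟩
  rw [Set.mem_singleton_iff] at hb
  subst hb
  rcases hg with rfl | rfl
  · exact h2
  · have h3 : Matrix.SpecialLinearGroup.transvection (one_ne_zero : (1 : Fin 2) ≠ 0) (1 : F) =
        wS F * (up 1)⁻¹ * (wS F)⁻¹ := by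
      rw [eq_mul_inv_iff_mul_eq, eq_mul_inv_iff_mul_eq]
      apply Subtype.ext
      show (Matrix.SpecialLinearGroup.transvection (one_ne_zero : (1 : Fin 2) ≠ 0) (1 : F)).1 * (wS F).1 *
        (up 1).1 = (wS F).1
      rw [up_val, Matrix.SpecialLinearGroup.transvection_coe]
      show _ * !![(0 : F), -1; 1, 0] * _ = !![(0 : F), -1; 1, 0]
      ext i j
      fin_cases i <;> fin_cases j <;>
        simp [Matrix.mul_apply, Fin.sum_univ_two, Matrix.single]
    rw [h3]
    exact L.mul_mem (L.mul_mem h1 (L.inv_mem h2)) (L.inv_mem h1)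

/-- **`PSL₂(F)`, `F` a prime field** -/
theorem five_psl2_prime [IsSimpleGroup PSL2] (hns : ¬ Group.IsSolvable PSL2)
    (hF : ∀ x : F, ∃ n : ℤ, (n : F) = x) : Five 3 PSL2 := by
  set S : PSL2 := QuotientGroup.mk (wS F) with hS
  set R : PSL2 := QuotientGroup.mk (wS F * up 1) with hR
  have hSS : S * S = 1 := wS_sq
  have hR3 : R ^ 3 = 1 := wS_up_cube
  have hSi : S⁻¹ = S := inv_eq_of_mul_eq_one_left hSS
  refine Five.of_three (a := R) (b := S * R * S) (c := R) (i := 1) (j := 1) (k := 1) (by norm_num) ?_ ?_ ?_ ?_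
  · rw [pow_one]; exact hR3
  · have : S * R * S = S * R * S⁻¹ := by rw [hSi]
    rw [pow_one, this, conj_pow, hR3]
    group
  · rw [pow_one]; exact hR3
  · intro L ha hb _ hL
    -- the subgroup generated by `R` and `S R S` is normal
    set T : Subgroup PSL2 := closure {R, S * R * S} with hT
    have hTL : T ≤ L := by
      rw [hT, closure_le]
      rintro x (rfl | rfl)
      · exact ha
      · exact hb
    have hRT : R ∈ T := subset_closure (Or.inl rfl)
    have hST : S * R * S ∈ T := subset_closure (Or.inr rfl)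
    have hSc : ∀ x ∈ T, S * x * S⁻¹ ∈ T := by
      intro x hx
      induction hx using closure_induction with
      | mem x hx =>
        rcases hx with rfl | rfl
        · rw [hSi]; exact hST
        · have : S * (S * R * S) * S⁻¹ = (S * S) * R * (S * S⁻¹) := by group
          rw [this, hSS, mul_inv_cancel, one_mul, mul_one]
          exact hRT
      | one => simp
      | mul x y _ _ hx hy =>
        have : S * (x * y) * S⁻¹ = (S * x * S⁻¹) * (S * y * S⁻¹) := by group
        rw [this]
        exact T.mul_mem hx hy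
      | inv x _ hx =>
        have : S * x⁻¹ * S⁻¹ = (S * x * S⁻¹)⁻¹ := by group
        rw [this]
        exact T.inv_mem hx
    have hSn : S ∈ normalizer (T : Set PSL2) := by
      rw [mem_normalizer_iff]
      intro x
      refine ⟨hSc x, fun h => ?_⟩
      have h1 := hSc _ h
      have h2 : S * (S * x * S⁻¹) * S⁻¹ = (S * S) * x * (S * S)⁻¹ := by group
      rw [h2, hSS, inv_one, one_mul, mul_one] at h1
      exact h1
    have hRn : R ∈ normalizer (T : Set PSL2) := le_normalizer hRT
    have hN : (normalizer (T : Set PSL2)).comap (QuotientGroup.mk' (center SL2)) = ⊤ := by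
      refine closure_wS_up hF hSn ?_
      have h1 : (up 1 : SL2) = (wS F)⁻¹ * (wS F * up 1) := by group
      rw [h1]
      exact Subgroup.mul_mem _ (Subgroup.inv_mem _ hSn) hRn
    have hN' : normalizer (T : Set PSL2) = ⊤ := by
      rw [eq_top_iff]
      intro x _
      obtain ⟨y, rfl⟩ := QuotientGroup.mk_surjective x
      have : y ∈ (normalizer (T : Set PSL2)).comap (QuotientGroup.mk' (center SL2)) := by rw [hN]; exact mem_top _
      exact this
    have hTn : T.Normal := normalizer_eq_top_iff.1 hN'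
    rcases hTn.eq_bot_or_eq_top with h | h
    · rw [h, mem_bot] at hRT
      exact wS_up_ne hRT
    · rw [h, top_le_iff] at hTL
      rw [hTL] at hL
      exact hns (Group.isSolvable_of_surjective (f := (topEquiv (G := PSL2)).toMonoidHom) topEquiv.surjective)

end Prime

/-! ### `PSL₃(3)` -/

section Three

variable {F : Type*} [Field F] [Fintype F]

local notation "PSL3" => Matrix.ProjectiveSpecialLinearGroup (Fin 3) F

/-- **`PSL₃(3)`** -/
theorem five_psl3 (hF : Fintype.card F = 3) (hns : ¬ Group.IsSolvable PSL3) : Five 3 PSL3 := by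
  have h3 : (3 : F) = 0 := by
    have h := Nat.cast_card_eq_zero F
    rw [hF] at h
    exact_mod_cast h
  set x : Matrix.SpecialLinearGroup (Fin 3) F :=
    Matrix.SpecialLinearGroup.transvection (show (0 : Fin 3) ≠ 1 by decide) 1 with hx
  set w : Matrix.SpecialLinearGroup (Fin 3) F := ⟨!![0, 1, 0; 0, 0, 1; 1, 0, 0], by simp [Matrix.det_fin_three]⟩ with hw
  have hw3 : w ^ 3 = 1 := by
    apply Subtype.ext
    rw [pow_succ, pow_two]
    show !![(0 : F), 1, 0; 0, 0, 1; 1, 0, 0] * !![(0 : F), 1, 0; 0, 0, 1; 1, 0, 0] * !![(0 : F), 1, 0; 0, 0, 1; 1, 0, 0]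
      = 1
    ext i j
    fin_cases i <;> fin_cases j <;> simp [Matrix.mul_apply, Fin.sum_univ_three]
  have hx3 : x ^ 3 = 1 := by
    have h01 : (0 : Fin 3) ≠ 1 := by decide
    have h1 : x ^ 3 = Matrix.SpecialLinearGroup.transvection h01 ((1 : F) + 1 + 1) := by
      rw [pow_succ, pow_two, Matrix.SpecialLinearGroup.transvection_add, Matrix.SpecialLinearGroup.transvection_add]
    rw [h1]
    have h2 : (1 : F) + 1 + 1 = 0 := by linear_combination h3
    rw [h2, Matrix.SpecialLinearGroup.transvection_coeff_zero]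
  have hgen := S2403.result (K := F) hF.le 2 (by norm_num) x w
    (Matrix.SpecialLinearGroup.transvection_coe _ _) (by
      rw [hw]
      ext i j
      fin_cases i <;> fin_cases j <;> simp)
  refine Five.of_three (a := (QuotientGroup.mk x : PSL3)) (b := QuotientGroup.mk w) (c := 1) (i := 1) (j := 1)
    (k := 1) (by norm_num) ?_ ?_ ?_ ?_
  · rw [pow_one, ← QuotientGroup.mk_pow, hx3]; rfl
  · rw [pow_one, ← QuotientGroup.mk_pow, hw3]; rfl
  · simp
  · intro L ha hb _ hL
    have h1 : closure ({x, w} : Set (Matrix.SpecialLinearGroup (Fin 3) F)) ⊔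
        center (Matrix.SpecialLinearGroup (Fin 3) F) ≤ L.comap (QuotientGroup.mk' _) := by
      refine sup_le ?_ ?_
      · rw [closure_le]
        rintro y (rfl | rfl)
        · exact ha
        · exact hb
      · intro z hz
        have : (QuotientGroup.mk' (center (Matrix.SpecialLinearGroup (Fin 3) F))) z = 1 :=
          (QuotientGroup.eq_one_iff z).2 hz
        show _ ∈ L
        rw [this]
        exact L.one_mem
    rw [hgen, top_le_iff] at h1
    have h2 : L = ⊤ := by
      rw [eq_top_iff]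
      intro y _
      obtain ⟨z, rfl⟩ := QuotientGroup.mk_surjective y
      have : z ∈ L.comap (QuotientGroup.mk' (center (Matrix.SpecialLinearGroup (Fin 3) F))) := by
        rw [h1]; exact mem_top _
      exact this
    rw [h2] at hL
    exact hns (Group.isSolvable_of_surjective (f := (topEquiv (G := PSL3)).toMonoidHom) topEquiv.surjective)

end Three

/-! ### Suzuki groups -/

section Suz

open Cfsg.Agent.LieRecognition.SzMatrix Cfsg.Agent.LieRecognition.RankOneAbstract

variable {F : Type*} [Field F] [Fintype F] {m : ℕ}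

/-- **Suzuki groups** -/
theorem five_sz (hm : 1 ≤ m) (hF : Fintype.card F = 2 ^ (2 * m + 1)) :
    Five 2 ↥(Cfsg.Lie.Sz F (2 ^ (m + 1))) := by
  have H := good hF
  have D := S1163.data_sz H
  have h2 := H.two
  -- involutions of the Borel subgroup
  have hinv : ∀ e ∈ H.borel, orderOf e = 2 → e ∈ H.unip := by
    intro e he he2
    obtain ⟨a, b, k, rfl⟩ := (H.mem_borel_iff' e).1 he
    have h1 : (H.u a b * H.d k) * (H.u a b * H.d k) = 1 := by
      have := pow_orderOf_eq_one (H.u a b * H.d k)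
      rw [he2, pow_two] at this
      exact this
    have h3 : (H.u a b * H.d k) * (H.u a b * H.d k) =
        H.u (a + a * k ^ 2 * (theta hF k)⁻¹) (b + b * theta hF k + a * theta hF (a * k ^ 2 * (theta hF k)⁻¹)) *
          H.d (k * k) := by
      rw [← H.u_mul, ← H.d_mul]
      calc (H.u a b * H.d k) * (H.u a b * H.d k) = H.u a b * (H.d k * H.u a b) * H.d k := by group
        _ = _ := by rw [H.d_mul_u]; group
    rw [h3] at h1
    have h4 : H.u (a + a * k ^ 2 * (theta hF k)⁻¹)
        (b + b * theta hF k + a * theta hF (a * k ^ 2 * (theta hF k)⁻¹)) * H.d (k * k) = H.u 0 0 * H.d 1 := by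
      rw [h1, H.u_zero, H.d_one, one_mul]
    obtain ⟨-, -, h5⟩ := H.u_mul_d_inj h4
    have h6 : k = 1 := by
      apply Units.ext
      have h7 : (k : F) * k = 1 := by
        have := congrArg Units.val h5
        simpa using this
      have h8 : ((k : F) - 1) ^ 2 = 0 := by linear_combination h7 - (k - 1 : F) * h2
      have h9 := pow_eq_zero_iff (two_ne_zero) |>.1 h8
      show (k : F) = 1
      linear_combination h9
    rw [h6, H.d_one, mul_one]
    exact H.u_mem_unip a b
  have hstrong : ∀ g e : ↥(Cfsg.Lie.Sz F (2 ^ (m + 1))), e ∈ H.borel → orderOf e = 2 → g⁻¹ * e * g ∈ H.borel →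
      g ∈ H.borel := by
    intro g e he he2 hg
    by_contra hcon
    obtain ⟨s, hs, hb⟩ := D.bruhat g hcon
    set b := (s * H.w)⁻¹ * g with hbdef
    have h1 : g = s * H.w * b := by rw [hbdef]; group
    have h3 : H.w⁻¹ * (s⁻¹ * e * s) * H.w ∈ H.borel := by
      have h4 : H.w⁻¹ * (s⁻¹ * e * s) * H.w = b * (g⁻¹ * e * g) * b⁻¹ := by rw [h1]; group
      rw [h4]
      exact H.borel.mul_mem (H.borel.mul_mem hb hg) (H.borel.inv_mem hb)
    have h4 := D.inter (s⁻¹ * e * s) (H.unip.mul_mem (H.unip.mul_mem (H.unip.inv_mem hs) (hinv e he he2)) hs) h3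
    have h5 : e = 1 := by
      calc e = s * (s⁻¹ * e * s) * s⁻¹ := by group
        _ = 1 := by rw [h4]; group
    rw [h5, orderOf_one] at he2
    exact absurd he2 (by norm_num)
  -- a four-group
  have hcF8 : 8 ≤ Fintype.card F := by
    rw [hF]
    calc 8 = 2 ^ 3 := by norm_num
      _ ≤ 2 ^ (2 * m + 1) := Nat.pow_le_pow_right (by norm_num) (by omega)
  obtain ⟨t, ht0, ht1⟩ : ∃ t : F, t ≠ 0 ∧ t ≠ 1 := by
    by_contra hcon
    push Not at hcon
    have h1 : Fintype.card F ≤ Fintype.card (Bool) := by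
      refine Fintype.card_le_of_surjective (fun b : Bool => if b then (1 : F) else 0) fun x => ?_
      by_cases hx : x = 0
      · exact ⟨false, by simp [hx]⟩
      · exact ⟨true, by simp [hcon x hx]⟩
    rw [Fintype.card_bool] at h1
    omega
  have husq : ∀ b : F, H.u 0 b * H.u 0 b = 1 := by
    intro b
    rw [H.u_mul, ← H.u_zero]
    congr 1
    · ring
    · linear_combination b * h2
  have hune : ∀ b : F, b ≠ 0 → H.u 0 b ≠ 1 := by
    intro b hb h
    rw [← H.u_zero] at h
    exact hb (H.u_inj h).2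
  have horder : ∀ b : F, b ≠ 0 → orderOf (H.u 0 b) = 2 := fun b hb =>
    orderOf_eq_prime (by rw [pow_two]; exact husq b) (hune b hb)
  refine Five.of_three (a := H.u 0 1) (b := H.u 0 t) (c := H.w * H.u 0 1 * H.w⁻¹) (i := 1) (j := 1) (k := 1)
    (by norm_num) ?_ ?_ ?_ ?_
  · rw [pow_one, pow_two]; exact husq 1
  · rw [pow_one, pow_two]; exact husq t
  · rw [pow_one, conj_pow, pow_two, husq 1]
    group
  · intro L ha hb hc
    have : Fact (Nat.Prime 2) := ⟨Nat.prime_two⟩
    refine SYTi.not_solvable (p := 2) (M := H.borel) hstrong (H.u_mem_borel 0 1) (horder 1 one_ne_zero)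
      (horder t ht0) ?_ ?_ H.w_not_mem_borel ha hb hc
    · rw [H.u_mul, H.u_mul]
      congr 1
      ring
    · intro h
      obtain ⟨n, hn⟩ := mem_zpowers_iff.1 h
      obtain ⟨j, hj | hj⟩ := n.even_or_odd'
      · rw [hj, _root_.zpow_mul, zpow_two, husq 1, _root_.one_zpow] at hn
        exact hune t ht0 hn.symm
      · rw [hj, _root_.zpow_add, _root_.zpow_mul, zpow_two, husq 1, _root_.one_zpow, one_mul, zpow_one] at hn
        exact ht1 (H.u_inj hn).2.symm

end Suz

end Cfsg.Agent.H63.SYFive
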