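import Cfsg.Agent.H301.SY.Base
import Cfsg.Agent.Dichotomy.Constraint
import Cfsg.Agent.OddOrderLocal.RankTwoSolvable
import Cfsg.Agent.Lib.PGroupCoprimeAction
import Cfsg.Agent.Lib.ProductSet

/-!
# Elements of prime order of the solvable radical, cyclic Sylow subgroups (helper63, for S3846)

`G` finite with cyclic Sylow `p`-subgroups, `x` of order `p` in the solvable radical:
* `core` : there is a normal `p'`-subgroup `N` with `N⟨x⟩` normal in `G`;
* `fact` : `G = N · N_G(⟨x⟩)`;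
* `le_of_inv` : `N` contains the `⟨x⟩`-invariant `t`-subgroups without fixed points of `x`.
-/

set_option autoImplicit false

namespace Cfsg.Agent.H63.SYRad

open Cfsg Subgroup Cfsg.Agent.H301.SY Cfsg.Agent.H459.Rad

variable {G : Type*} [Group G] [Finite G] {p : ℕ} [hp : Fact p.Prime]

/-- subgroups have cyclic Sylow subgroups -/
theorem cyclic_of_le (hP : ∀ P : Sylow p G, IsCyclic (P : Subgroup G)) {Q : Subgroup G} (hQ : IsPGroup p Q) :
    IsCyclic Q := by
  obtain ⟨P, hQP⟩ := hQ.exists_le_sylow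
  have := hP P
  exact isCyclic_of_injective (Subgroup.inclusion hQP) (Subgroup.inclusion_injective hQP)

theorem cyclic_sub (hP : ∀ P : Sylow p G, IsCyclic (P : Subgroup G)) (M : Subgroup G) (P : Sylow p M) :
    IsCyclic (P : Subgroup M) := by
  have h1 := cyclic_of_le hP (P.isPGroup'.map M.subtype)
  have e := (P : Subgroup M).equivMapOfInjective M.subtype M.subtype_injective
  exact isCyclic_of_surjective e.symm e.symm.surjective

theorem core (hP : ∀ P : Sylow p G, IsCyclic (P : Subgroup G)) {x : G} (hx : orderOf x = p)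
    (hxr : x ∈ solvableRadical G) : ∃ N : Subgroup G, N.Normal ∧ ¬ p ∣ Nat.card N ∧
      ∀ g : G, ∃ k : ℤ, (x ^ k)⁻¹ * (g * x * g⁻¹) ∈ N := by
  set S : Subgroup G := solvableRadical G with hS
  have hSn : S.Normal := rad_normal G
  have hSs : Group.IsSolvable S := rad_solvable G
  set N0 : Subgroup S := pPrimeCore p S with hN0
  have hN0n : N0.Normal := Lib.Cores.pPrimeCore_normal p
  have hmap : N0.map S.subtype = S ⊓ pPrimeCore p G := Lib.Cores.map_subtype_pPrimeCore p hSn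
  have hs : Function.Surjective (QuotientGroup.mk' N0) := QuotientGroup.mk'_surjective _
  have hsq : Group.IsSolvable (S ⧸ N0) := Group.isSolvable_of_surjective hs
  have hc : centralizer (pCore p (S ⧸ N0) : Set (S ⧸ N0)) ≤ pCore p (S ⧸ N0) :=
    OddOrderLocal.RankTwoSolvable.centralizer_pCore_le (Lib.Cores.pPrimeCore_quotient_pPrimeCore p)
  obtain ⟨P⟩ : Nonempty (Sylow p S) := inferInstance
  have hPc := cyclic_sub hP S P
  have hQc : IsCyclic ((P.mapSurjective hs : Sylow p (S ⧸ N0)) : Subgroup (S ⧸ N0)) := by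
    have h1 : ((P.mapSurjective hs : Sylow p (S ⧸ N0)) : Subgroup (S ⧸ N0)) =
      (P : Subgroup S).map (QuotientGroup.mk' N0) := rfl
    rw [h1]
    exact isCyclic_of_surjective ((QuotientGroup.mk' N0).subgroupMap (P : Subgroup S))
      ((QuotientGroup.mk' N0).subgroupMap_surjective _)
  -- elements of order `p`
  have key : ∀ y : S, orderOf y = p →
      (QuotientGroup.mk' N0 y) ∈ ((P.mapSurjective hs : Sylow p (S ⧸ N0)) : Subgroup (S ⧸ N0)) := by
    intro y hy
    have hyp : IsPGroup p (zpowers y) := IsPGroup.of_card (n := 1) (by rw [Nat.card_zpowers, hy, pow_one])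
    obtain ⟨P', hyP'⟩ := hyp.exists_le_sylow
    have hP'c := cyclic_sub hP S P'
    have h1 : y ∈ pPrimePCore p S := by
      refine Dichotomy.Constraint.mem_of_commute hc P' fun q hq => ?_
      have := (IsCyclic.isMulCommutative (α := (P' : Subgroup S))).is_comm.comm (⟨y, hyP' (mem_zpowers y)⟩ : (P' : Subgroup S)) ⟨q, hq.1⟩
      exact congrArg Subtype.val this
    exact Lib.Cores.pCore_le_sylow _ h1
  refine ⟨S ⊓ pPrimeCore p G, inferInstance, ?_, ?_⟩
  · intro h
    have h1 := h.trans (card_dvd_of_le (inf_le_right : S ⊓ pPrimeCore p G ≤ pPrimeCore p G))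
    have h2 := Lib.Cores.pPrimeCore_coprime (G := G) p
    exact hp.out.one_lt.ne' (Nat.dvd_one.1 (h2 ▸ Nat.dvd_gcd h1 dvd_rfl))
  · intro g
    have hy : orderOf (⟨x, hxr⟩ : S) = p := by rw [Subgroup.orderOf_mk, hx]
    have hgx : g * x * g⁻¹ ∈ S := hSn.conj_mem x hxr g
    have hy' : orderOf (⟨g * x * g⁻¹, hgx⟩ : S) = p := by
      rw [Subgroup.orderOf_mk, ← hx]
      exact orderOf_injective (MulAut.conj g).toMonoidHom (MulAut.conj g).injective x
    have h1 := key _ hy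
    have h2 := key _ hy'
    have h3 : orderOf (QuotientGroup.mk' N0 ⟨x, hxr⟩) = p := by
      apply orderOf_eq_prime
      · rw [← map_pow, ← hy, pow_orderOf_eq_one, map_one]
      · intro h
        have h4 : (⟨x, hxr⟩ : S) ∈ N0 := (QuotientGroup.eq_one_iff _).1 h
        have h5 : orderOf (⟨⟨x, hxr⟩, h4⟩ : N0) = p := by rw [Subgroup.orderOf_mk, hy]
        have h6 : p ∣ Nat.card N0 := by rw [← h5]; exact orderOf_dvd_natCard _
        have h7 := Lib.Cores.pPrimeCore_coprime (G := S) p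
        exact hp.out.one_lt.ne' (Nat.dvd_one.1 (h7 ▸ Nat.dvd_gcd h6 dvd_rfl))
    have h4 : (QuotientGroup.mk' N0 ⟨g * x * g⁻¹, hgx⟩) ^ p = 1 := by
      rw [← map_pow, ← hy', pow_orderOf_eq_one, map_one]
    have h5 := cyc_mem (C := ((P.mapSurjective hs : Sylow p (S ⧸ N0)) : Subgroup (S ⧸ N0)))
      (a := ⟨_, h2⟩) (b := ⟨_, h1⟩) (n := p) (Subtype.ext h4) (by rw [Subgroup.orderOf_mk]; exact h3)
    obtain ⟨k, hk⟩ := mem_zpowers_iff.1 h5
    refine ⟨k, ?_⟩
    have h6 : (QuotientGroup.mk' N0 ⟨x, hxr⟩) ^ k = QuotientGroup.mk' N0 ⟨g * x * g⁻¹, hgx⟩ := by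
      have := congrArg Subtype.val hk
      rw [SubgroupClass.coe_zpow] at this
      exact this
    rw [← map_zpow] at h6
    have h7 : (⟨x, hxr⟩ ^ k : S)⁻¹ * ⟨g * x * g⁻¹, hgx⟩ ∈ N0 := QuotientGroup.eq.1 h6
    rw [← hmap]
    exact ⟨_, h7, rfl⟩


/-- the factorization `G = N · N_G(⟨x⟩)` -/
theorem fact {x : G} (hx : orderOf x = p) {N : Subgroup G} (hN : N.Normal) (hNp : ¬ p ∣ Nat.card N)
    (hN1 : ∀ g : G, ∃ k : ℤ, (x ^ k)⁻¹ * (g * x * g⁻¹) ∈ N) (g : G) :
    ∃ n ∈ N, ∃ h : G, h * x * h⁻¹ ∈ zpowers x ∧ g = n * h := by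
  -- `L = N⟨x⟩` is normal
  set L : Subgroup G := N ⊔ zpowers x with hL
  have hxL : zpowers x ≤ L := le_sup_right
  have hNL : N ≤ L := le_sup_left
  have hconj : ∀ g : G, g * x * g⁻¹ ∈ L := by
    intro g
    obtain ⟨k, hk⟩ := hN1 g
    have : g * x * g⁻¹ = x ^ k * ((x ^ k)⁻¹ * (g * x * g⁻¹)) := by group
    rw [this]
    exact L.mul_mem (hxL (zpow_mem_zpowers x k)) (hNL hk)
  have hLn : L.Normal := by
    constructor
    intro l hl g
    obtain ⟨n, hn, y, hy, rfl⟩ := mem_sup_of_normal_left.1 hl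
    obtain ⟨k, rfl⟩ := mem_zpowers_iff.1 hy
    have : g * (n * x ^ k) * g⁻¹ = (g * n * g⁻¹) * (g * x * g⁻¹) ^ k := by
      rw [conj_zpow]; group
    rw [this]
    exact L.mul_mem (hNL (hN.conj_mem n hn g)) (L.zpow_mem (hconj g) k)
  have hxp : IsPGroup p (zpowers x) := IsPGroup.of_card (n := 1) (by rw [Nat.card_zpowers, hx, pow_one])
  have hcardL : Nat.card L ∣ Nat.card N * p := by
    have := Lib.Cores.card_sup_dvd N (zpowers x) hN
    rwa [Nat.card_zpowers, hx] at this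
  have hXL : IsPGroup p ((zpowers x).subgroupOf L) := hxp.comap_subtype
  have hcardX : Nat.card ((zpowers x).subgroupOf L) = p := by
    rw [← hx, ← Nat.card_zpowers x]
    exact Nat.card_congr (subgroupOfEquivOfLe hxL).toEquiv
  have hidx : ¬ p ∣ ((zpowers x).subgroupOf L).index := by
    intro h
    have h1 : p * p ∣ Nat.card L := by
      rw [← Subgroup.card_mul_index ((zpowers x).subgroupOf L), hcardX]
      exact Nat.mul_dvd_mul_left p h
    have h2 := h1.trans hcardL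
    exact hNp (Nat.dvd_of_mul_dvd_mul_right hp.out.pos h2)
  have hfr := (hXL.toSylow hidx).normalizer_sup_eq_top (N := L)
  have hmap : ((hXL.toSylow hidx : Sylow p L) : Subgroup L).map L.subtype = zpowers x := by
    have h1 : ((hXL.toSylow hidx : Sylow p L) : Subgroup L) = (zpowers x).subgroupOf L := rfl
    rw [h1, subgroupOf_map_subtype, inf_eq_left]
    exact hxL
  rw [hmap] at hfr
  have hg : g ∈ normalizer (zpowers x : Set G) ⊔ L := by rw [hfr]; exact mem_top _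
  rw [sup_comm] at hg
  obtain ⟨l, hl, h, hh, rfl⟩ := mem_sup_of_normal_left.1 hg
  obtain ⟨n, hn, y, hy, rfl⟩ := mem_sup_of_normal_left.1 hl
  refine ⟨n, hn, y * h, ?_, by group⟩
  have hyh : y * h ∈ normalizer (zpowers x : Set G) := mul_mem (le_normalizer hy) hh
  exact (mem_normalizer_iff.1 hyh x).1 (mem_zpowers x)

/-- invariant `t`-subgroups without fixed points lie in `N` -/
theorem le_of_inv {t : ℕ} [ht : Fact t.Prime] (htp : t ≠ p) {x : G} (hx : orderOf x = p) {N : Subgroup G}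
    (hN : N.Normal) (hN1 : ∀ g : G, ∃ k : ℤ, (x ^ k)⁻¹ * (g * x * g⁻¹) ∈ N)
    (htx : ¬ t ∣ Nat.card (centralizer ({x} : Set G))) {Q : Subgroup G} (hQ : IsPGroup t Q)
    (hxQ : ∀ a ∈ Q, x * a * x⁻¹ ∈ Q) : Q ≤ N := by
  -- `a ↦ a⁻¹ x a x⁻¹` is a bijection of `Q`
  have hinj : Function.Injective (fun a : Q => (⟨(a : G)⁻¹ * (x * a * x⁻¹),
      Q.mul_mem (Q.inv_mem a.2) (hxQ a a.2)⟩ : Q)) := by
    intro a b hab
    have h1 : (a : G)⁻¹ * (x * a * x⁻¹) = (b : G)⁻¹ * (x * b * x⁻¹) := congrArg Subtype.val hab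
    have h2 : ((b : G) * (a : G)⁻¹) * x = x * ((b : G) * (a : G)⁻¹) := by
      have h3 : (b : G) * ((a : G)⁻¹ * (x * a * x⁻¹)) * (x * (a : G)⁻¹) =
        (b : G) * ((b : G)⁻¹ * (x * b * x⁻¹)) * (x * (a : G)⁻¹) := by rw [h1]
      have h4 : (b : G) * ((a : G)⁻¹ * (x * a * x⁻¹)) * (x * (a : G)⁻¹) = ((b : G) * (a : G)⁻¹) * x := by group
      have h5 : (b : G) * ((b : G)⁻¹ * (x * b * x⁻¹)) * (x * (a : G)⁻¹) = x * ((b : G) * (a : G)⁻¹) := by group
      rw [← h4, h3, h5]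
    have h3 : (b : G) * (a : G)⁻¹ ∈ centralizer ({x} : Set G) := by
      rw [mem_centralizer_iff]
      intro y hy
      rw [Set.mem_singleton_iff.1 hy]
      exact h2.symm
    have h4 : (b : G) * (a : G)⁻¹ ∈ Q := Q.mul_mem b.2 (Q.inv_mem a.2)
    have h5 : (b : G) * (a : G)⁻¹ = 1 := by
      by_contra hne
      obtain ⟨n, hn⟩ := (IsPGroup.iff_orderOf.1 hQ) ⟨_, h4⟩
      rw [Subgroup.orderOf_mk] at hn
      have hn0 : n ≠ 0 := by
        rintro rfl
        rw [pow_zero, orderOf_eq_one_iff] at hn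
        exact hne hn
      apply htx
      have h6 : orderOf (⟨_, h3⟩ : centralizer ({x} : Set G)) = t ^ n := by rw [Subgroup.orderOf_mk, hn]
      exact (dvd_pow_self t hn0).trans (h6 ▸ orderOf_dvd_natCard _)
    exact Subtype.ext (mul_inv_eq_one.1 h5).symm
  have hsurj := Finite.surjective_of_injective hinj
  have hxN : (QuotientGroup.mk' N x) ^ p = 1 := by rw [← map_pow, ← hx, pow_orderOf_eq_one, map_one]
  intro q hq
  obtain ⟨a, ha⟩ := hsurj ⟨q, hq⟩
  have ha' : (a : G)⁻¹ * (x * a * x⁻¹) = q := congrArg Subtype.val ha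
  obtain ⟨k, hk⟩ := hN1 (a : G)⁻¹
  rw [inv_inv] at hk
  have h1 : (QuotientGroup.mk' N q) = (QuotientGroup.mk' N x) ^ k * (QuotientGroup.mk' N x)⁻¹ := by
    have h2 : (QuotientGroup.mk' N) (x ^ k) = QuotientGroup.mk' N ((a : G)⁻¹ * x * a) := QuotientGroup.eq.2 hk
    rw [← map_zpow, h2, ← map_inv, ← map_mul, ← ha']
    congr 1
    group
  have h2 : (QuotientGroup.mk' N q) ^ p = 1 := by
    have hcomm : Commute ((QuotientGroup.mk' N x) ^ k) (QuotientGroup.mk' N x)⁻¹ :=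
      ((Commute.refl (QuotientGroup.mk' N x)).zpow_left k).inv_right
    rw [h1, hcomm.mul_pow, inv_pow, hxN, inv_one, mul_one, ← zpow_natCast, ← zpow_mul, mul_comm k, zpow_mul,
      zpow_natCast, hxN, one_zpow]
  obtain ⟨n, hn⟩ := (IsPGroup.iff_orderOf.1 hQ) ⟨q, hq⟩
  rw [Subgroup.orderOf_mk] at hn
  have h3 : (QuotientGroup.mk' N q) ^ t ^ n = 1 := by rw [← map_pow, ← hn, pow_orderOf_eq_one, map_one]
  have h4 : orderOf (QuotientGroup.mk' N q) = 1 := by
    have h5 := orderOf_dvd_of_pow_eq_one h2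
    have h6 := orderOf_dvd_of_pow_eq_one h3
    have h7 : Nat.Coprime p (t ^ n) :=
      Nat.Coprime.pow_right n ((Nat.coprime_primes hp.out ht.out).2 htp.symm)
    exact Nat.dvd_one.1 (h7 ▸ Nat.dvd_gcd h5 h6)
  rw [orderOf_eq_one_iff] at h4
  exact (QuotientGroup.eq_one_iff q).1 h4

end Cfsg.Agent.H63.SYRad
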