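import Cfsg.Agent.H63.SYRad
import Cfsg.Agent.H449.FixQuot
import Cfsg.Agent.SignalizersComponents.RelSylow
import Cfsg.Agent.Classification.IdU.GenSylow

/-!
# Tools for Theorem O (helper63, for S3846)
-/

set_option autoImplicit false
set_option linter.unusedSectionVars false

namespace Cfsg.Agent.H63.SYTools

open Cfsg Subgroup Cfsg.Agent.H301.SY Cfsg.Agent.H459.Rad Cfsg.Agent.H63.SYRad

variable {K : Type*} [Group K] [Finite K]

theorem mem_norm {A : Subgroup K} {g : K} (h : ∀ a ∈ A, g * a * g⁻¹ ∈ A) : g ∈ normalizer (A : Set K) := by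
  have h1 : A.map (MulAut.conj g).toMonoidHom = A := by
    apply Subgroup.eq_of_le_of_card_ge
    · rintro _ ⟨x, hx, rfl⟩
      exact h x hx
    · rw [Subgroup.card_map_of_injective (MulAut.conj g).injective]
  rw [mem_normalizer_iff]
  intro x
  refine ⟨fun hx => h x hx, fun hx => ?_⟩
  have h2 : g * x * g⁻¹ ∈ A.map (MulAut.conj g).toMonoidHom := by rw [h1]; exact hx
  obtain ⟨y, hy, hyx⟩ := h2
  have h3 : y = x := (MulAut.conj g).injective hyx
  rwa [← h3]

theorem conj_of_norm {A : Subgroup K} {g : K} (h : g ∈ normalizer (A : Set K)) {a : K} (ha : a ∈ A) :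
    g * a * g⁻¹ ∈ A := (mem_normalizer_iff.1 h a).1 ha

/-- comparison of prime powers -/
theorem pow_eq_of {t a b u v : ℕ} (ht : t.Prime) (hu : ¬ t ∣ u) (hv : ¬ t ∣ v) (h : t ^ a * u = t ^ b * v) :
    t ^ a = t ^ b := by
  apply Nat.dvd_antisymm
  · have h1 : t ^ a ∣ t ^ b * v := h ▸ dvd_mul_right _ _
    exact ((ht.coprime_iff_not_dvd.2 hv).pow_left a).dvd_of_dvd_mul_right h1
  · have h1 : t ^ b ∣ t ^ a * u := h ▸ dvd_mul_right _ _
    exact ((ht.coprime_iff_not_dvd.2 hu).pow_left b).dvd_of_dvd_mul_right h1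

/-- the subgroup generated by commuting elements of exponent `t` -/
theorem elem_closure {t : ℕ} {S : Set K} (hcomm : ∀ x ∈ S, ∀ y ∈ S, x * y = y * x) (hexp : ∀ x ∈ S, x ^ t = 1) :
    IsElementaryAbelian t (closure S) := by
  have hc : IsMulCommutative (closure S) := Subgroup.isMulCommutative_closure hcomm
  refine ⟨hc, fun x hx => ?_⟩
  induction hx using closure_induction with
  | mem x hx => exact hexp x hx
  | one => exact one_pow _
  | mul x y hx hy h1 h2 =>
    have h3 : Commute x y := congrArg Subtype.val (hc.is_comm.comm (⟨x, hx⟩ : closure S) ⟨y, hy⟩)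
    rw [h3.mul_pow, h1, h2, one_mul]
  | inv x hx h1 => rw [inv_pow, h1, inv_one]

theorem elem_comm {t : ℕ} {A : Subgroup K} (hA : IsElementaryAbelian t A) {a b : K} (ha : a ∈ A) (hb : b ∈ A) :
    a * b = b * a := congrArg Subtype.val (hA.1.is_comm.comm (⟨a, ha⟩ : A) ⟨b, hb⟩)

section Fix

variable {p : ℕ} [hp : Fact p.Prime]

/-- an element of order `p` without fixed points on `Q` -/
theorem card_sub_one {x : K} (hx : x ^ p = 1) {Q : Subgroup K} (hxQ : ∀ a ∈ Q, x * a * x⁻¹ ∈ Q)
    (hfix : ∀ a ∈ Q, x * a = a * x → a = 1) : p ∣ Nat.card Q - 1 := by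
  classical
  let _ : Fintype Q := Fintype.ofFinite Q
  let f : Function.End Q := fun a => ⟨x * a * x⁻¹, hxQ a a.2⟩
  have hf : ∀ n : ℕ, ∀ a : Q, (((f ^ n) a : Q) : K) = x ^ n * a * (x ^ n)⁻¹ := by
    intro n
    induction n with
    | zero =>
      intro a
      show (a : K) = _
      simp
    | succ n ih =>
      intro a
      have h1 : (f ^ (n + 1)) a = f ((f ^ n) a) := by rw [pow_succ']; rfl
      rw [h1]
      show x * ((f ^ n) a : Q) * x⁻¹ = _
      rw [ih, pow_succ']
      group
  have hfp : f ^ p ^ 1 = 1 := by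
    funext a
    apply Subtype.ext
    rw [pow_one, hf, hx]
    show _ = (a : K)
    simp
  have h1 := Equiv.Perm.card_fixedPoints_modEq hfp
  have h2 : Fintype.card f.fixedPoints = 1 := by
    rw [Fintype.card_eq_one_iff]
    refine ⟨⟨1, Subtype.ext (by simp [f])⟩, ?_⟩
    rintro ⟨a, ha⟩
    apply Subtype.ext
    have h3 : x * (a : K) * x⁻¹ = a := congrArg Subtype.val ha
    exact Subtype.ext (hfix a a.2 (mul_inv_eq_iff_eq_mul.1 h3))
  rw [h2] at h1
  rw [Nat.card_eq_fintype_card]
  exact (Nat.modEq_iff_dvd' Fintype.card_pos).1 h1.symm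

/-- powers of an element of prime order -/
theorem mem_zpowers_of {x y : K} (hx : orderOf x = p) (hy : y ∈ zpowers x) (hy1 : y ≠ 1) : x ∈ zpowers y := by
  have h1 : zpowers y ≤ zpowers x := by rwa [zpowers_le]
  have h2 : Nat.card (zpowers y) ∣ p := by
    have := card_dvd_of_le h1
    rwa [Nat.card_zpowers x, hx] at this
  rcases (Nat.dvd_prime hp.out).1 h2 with h | h
  · rw [Nat.card_zpowers, orderOf_eq_one_iff] at h
    exact absurd h hy1
  · have h3 := Subgroup.eq_of_le_of_card_ge h1 (by rw [h, Nat.card_zpowers, hx])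
    rw [h3]
    exact mem_zpowers x

/-- **the fixed points of an element which does not centralise `x`** -/
theorem sq_le {x : K} (hx : orderOf x = p) {V : Subgroup K} (hxV : ∀ a ∈ V, x * a * x⁻¹ ∈ V)
    (hfix : ∀ a ∈ V, x * a = a * x → a = 1) {y : K} (hy : y ∈ normalizer (zpowers x : Set K))
    (hyx : y * x ≠ x * y) : Nat.card (V ⊓ centralizer ({y} : Set K) : Subgroup K) ^ 2 ≤ Nat.card V := by
  set C : Subgroup K := V ⊓ centralizer ({y} : Set K) with hC
  set C' : Subgroup K := C.map (MulAut.conj x).toMonoidHom with hC'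
  have hcard : Nat.card C' = Nat.card C := Subgroup.card_map_of_injective (MulAut.conj x).injective
  have hinf : C ⊓ C' = ⊥ := by
    rw [eq_bot_iff]
    rintro v ⟨hv, w, hw, hwv⟩
    have hwv' : x * w * x⁻¹ = v := hwv
    have h1 : y * v = v * y := (mem_centralizer_iff.1 hv.2 y rfl)
    have h2 : y * w = w * y := (mem_centralizer_iff.1 hw.2 y rfl)
    have h3 : Commute v (x * y * x⁻¹) := by
      show v * (x * y * x⁻¹) = (x * y * x⁻¹) * v
      rw [← hwv']
      have e1 : x * w * x⁻¹ * (x * y * x⁻¹) = x * (w * y) * x⁻¹ := by group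
      have e2 : x * y * x⁻¹ * (x * w * x⁻¹) = x * (y * w) * x⁻¹ := by group
      rw [e1, e2, h2]
    have h4 : Commute v (y⁻¹ * (x * y * x⁻¹)) := by
      have h5 : Commute v y := h1.symm
      exact h5.inv_right.mul_right h3
    have h5 : y⁻¹ * (x * y * x⁻¹) ∈ zpowers x := by
      have h6 : y⁻¹ * x * y⁻¹⁻¹ ∈ zpowers x :=
        conj_of_norm ((normalizer (zpowers x : Set K)).inv_mem hy) (mem_zpowers x)
      rw [inv_inv] at h6
      have h7 := (zpowers x).mul_mem h6 ((zpowers x).inv_mem (mem_zpowers x))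
      have e : y⁻¹ * (x * y * x⁻¹) = y⁻¹ * x * y * x⁻¹ := by group
      rw [e]
      exact h7
    have h6 : y⁻¹ * (x * y * x⁻¹) ≠ 1 := by
      intro h
      apply hyx
      have e : y = x * y * x⁻¹ := by rw [inv_mul_eq_one] at h; exact h
      calc y * x = (x * y * x⁻¹) * x := by rw [← e]
        _ = x * y := by group
    obtain ⟨k, hk⟩ := mem_zpowers_iff.1 (mem_zpowers_of hx h5 h6)
    have h7 : Commute v x := by
      rw [← hk]
      exact h4.zpow_right k
    rw [mem_bot]
    exact hfix v hv.1 h7.symm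
  have h1 := Lib.ProductSet.card_mul_card_inf C C'
  rw [hinf, Subgroup.card_bot, mul_one, hcard, ← pow_two] at h1
  rw [← h1]
  apply Nat.card_mono (Set.toFinite _)
  rintro _ ⟨a, ha, b, ⟨c, hc, rfl⟩, rfl⟩
  exact V.mul_mem ha.1 (hxV c hc.1)

end Fix

/-- `|V| ≤ |C_V(y)| ^ (t ^ j)` for `y ^ (t ^ j) = 1` -/
theorem card_le_fixed_pow {t : ℕ} [ht : Fact t.Prime] {V : Subgroup K} (hV : IsElementaryAbelian t V) {y : K}
    (hy : y ∈ normalizer (V : Set K)) {j : ℕ} (hyj : y ^ t ^ j = 1) :
    Nat.card V ≤ Nat.card (V ⊓ centralizer ({y} : Set K) : Subgroup K) ^ (t ^ j) := by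
  let _ : CommGroup V := { (inferInstance : Group V) with mul_comm := hV.1.is_comm.comm }
  let A := Additive V
  let _ : Finite A := inferInstanceAs (Finite V)
  have hexp : ∀ v : A, t • v = 0 := fun v => by
    have : (Additive.toMul v : V) ^ t = 1 := Subtype.ext (hV.2 _ (Additive.toMul v).2)
    exact congrArg Additive.ofMul this
  let α : AddMonoid.End A := AddMonoidHom.mk' (fun v => Additive.ofMul (⟨y * (Additive.toMul v : V) * y⁻¹,
    conj_of_norm hy (Additive.toMul v).2⟩ : V)) (by
      intro a b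
      apply congrArg Additive.ofMul
      apply Subtype.ext
      show y * ((Additive.toMul a : V) * (Additive.toMul b : V) : K) * y⁻¹ =
        (y * (Additive.toMul a : V) * y⁻¹) * (y * (Additive.toMul b : V) * y⁻¹)
      group)
  have hα : ∀ n : ℕ, ∀ v : A, ((Additive.toMul ((α ^ n) v) : V) : K) = y ^ n * (Additive.toMul v : V) * (y ^ n)⁻¹ := by
    intro n
    induction n with
    | zero => intro v; simp
    | succ n ih =>
      intro v
      have h1 : (α ^ (n + 1)) v = α ((α ^ n) v) := by rw [pow_succ']; rfl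
      rw [h1]
      show y * (Additive.toMul ((α ^ n) v) : V) * y⁻¹ = _
      rw [ih, pow_succ']
      group
  have hα1 : α ^ t ^ j = 1 := by
    apply AddMonoidHom.ext
    intro v
    show (α ^ t ^ j) v = v
    have h1 : ((Additive.toMul ((α ^ t ^ j) v) : V) : K) = (Additive.toMul v : V) := by
      rw [hα, hyj]
      simp
    exact congrArg Additive.ofMul (Subtype.ext h1)
  set δ : AddMonoid.End A := α - 1 with hδ
  have h0 : (t : AddMonoid.End A) = 0 := by
    ext v
    have : ((t : AddMonoid.End A)) v = t • v := by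
      rw [AddMonoid.End.natCast_apply]
    rw [this, hexp]; rfl
  have h1 : δ ^ t ^ j = 0 := by
    obtain ⟨r, hr⟩ := (Commute.one_right δ).exists_add_pow_prime_pow_eq ht.out j
    simp only [h0, zero_mul, add_zero, one_pow] at hr
    rw [hδ, sub_add_cancel, hα1] at hr
    exact right_eq_add.mp hr
  have h2 := H449.card_ker_pow_le δ (t ^ j)
  have h3 : Nat.card {x : A // (δ ^ t ^ j) x = 0} = Nat.card V := by
    apply Nat.card_congr
    rw [h1]
    exact (Equiv.subtypeUnivEquiv (fun x => rfl)).trans Additive.toMul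
  have h4 : Nat.card {x : A // δ x = 0} = Nat.card (V ⊓ centralizer ({y} : Set K) : Subgroup K) := by
    apply Nat.card_congr
    refine ⟨fun v => ⟨((Additive.toMul v.1 : V) : K), (Additive.toMul v.1).2, ?_⟩,
      fun v => ⟨Additive.ofMul (⟨v.1, v.2.1⟩ : V), ?_⟩, fun v => rfl, fun v => rfl⟩
    · have h5 : α v.1 = v.1 := sub_eq_zero.1 v.2
      have h6 : y * (Additive.toMul v.1 : V) * y⁻¹ = (Additive.toMul v.1 : V) :=
        congrArg (fun z : A => ((Additive.toMul z : V) : K)) h5
      have h7 : ((Additive.toMul v.1 : V) : K) ∈ centralizer ({y} : Set K) := by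
        rw [mem_centralizer_iff]
        intro z hz
        rw [Set.mem_singleton_iff.1 hz]
        exact mul_inv_eq_iff_eq_mul.1 h6
      exact h7
    · have h5 : y * v.1 = v.1 * y := mem_centralizer_iff.1 v.2.2 y rfl
      have h6 : α (Additive.ofMul (⟨v.1, v.2.1⟩ : V)) = Additive.ofMul (⟨v.1, v.2.1⟩ : V) := by
        apply congrArg Additive.ofMul
        apply Subtype.ext
        show y * v.1 * y⁻¹ = v.1
        rw [h5]; group
      have h8 : (α - 1) (Additive.ofMul (⟨v.1, v.2.1⟩ : V)) = α (Additive.ofMul (⟨v.1, v.2.1⟩ : V)) -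
        Additive.ofMul (⟨v.1, v.2.1⟩ : V) := rfl
      show (α - 1) _ = 0
      rw [h8, h6, sub_self]
  rwa [h3, h4] at h2

/-- `N_G(⟨x⟩) / C_G(x)` embeds in a cyclic group of order `p - 1` -/
theorem cyclic_of_faithful {p : ℕ} [hp : Fact p.Prime] {x : K} (hx : orderOf x = p) {Y : Subgroup K}
    (hY : Y ≤ normalizer (zpowers x : Set K)) (hYc : ∀ y ∈ Y, y * x = x * y → y = 1) :
    IsCyclic Y ∧ Nat.card Y ∣ p - 1 := by
  have hcard : Nat.card (zpowers x) = p := by rw [Nat.card_zpowers, hx]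
  have hcyc : IsCyclic (zpowers x) := inferInstance
  have e := IsCyclic.mulAutMulEquiv (zpowers x)
  rw [hcard] at e
  let φ : Y →* MulAut (zpowers x) := (zpowers x).normalizerMonoidHom.comp (Subgroup.inclusion hY)
  have hφ : Function.Injective φ := by
    rw [injective_iff_map_eq_one]
    intro y hy
    apply Subtype.ext
    apply hYc y y.2
    have h1 : ((φ y ⟨x, mem_zpowers x⟩ : zpowers x) : K) = x := by rw [hy]; rfl
    have h2 : (y : K) * x * (y : K)⁻¹ = x := h1
    exact mul_inv_eq_iff_eq_mul.1 h2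
  let ψ : Y →* (ZMod p)ˣ := e.toMonoidHom.comp φ
  have hψ : Function.Injective ψ := e.injective.comp hφ
  refine ⟨isCyclic_of_injective ψ hψ, ?_⟩
  have h3 := Subgroup.card_dvd_of_injective ψ hψ
  rwa [Nat.card_eq_fintype_card (α := (ZMod p)ˣ), ZMod.card_units] at h3

end Cfsg.Agent.H63.SYTools
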